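import Cfsg.Agent.SemiCyclic.Kill.Exceptional

/-!
# The counts contradict the Sylow orders
-/

set_option autoImplicit false

namespace Cfsg.Lib.SemiCyclic

universe u

theorem killSpec : KillSpec.{u} := by
  intro G _ _ z K _ p S c f g h
  obtain ⟨rfl, hidx⟩ := S.cases h.pos h.even h.f_ne h.g_eq h.order
  exact five_exception S (S.index_eq h.inv_count hidx)

end Cfsg.Lib.SemiCyclic
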