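import Cfsg.Agent.SemiCyclic.Kill.Five

/-!
# The odd kernel is centralized by the elements of order 5
-/

set_option autoImplicit false
set_option linter.style.haveILetI false
set_option linter.unusedSectionVars false

namespace Cfsg.Lib.SemiCyclic

open Subgroup
open scoped MatrixGroups commutatorElement

universe u

variable {X : Type u} [Group X] [Finite X]

/-- The derived subgroup acts trivially on a cyclic normal subgroup. -/
theorem commutator_fix_cyclic (A : Subgroup X) [A.Normal] [IsCyclic A] {a : X} (ha : a ∈ commutator X) {v : X}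
    (hv : v ∈ A) : a * v * a⁻¹ = v := by
  have hab : ∀ f g : MulAut A, f * g = g * f := fun f g => by
    obtain ⟨e⟩ : Nonempty (MulAut A ≃* (ZMod (Nat.card A))ˣ) := ⟨IsCyclic.mulAutMulEquiv A⟩
    exact e.injective (by rw [map_mul, map_mul, mul_comm])
  have hle : commutator X ≤ (MulAut.conjNormal : X →* MulAut A).ker := by
    rw [_root_.commutator_def]
    refine commutator_le.2 fun b _ c _ => ?_
    rw [MonoidHom.mem_ker, map_commutatorElement, commutatorElement_eq_one_iff_mul_comm]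
    exact hab _ _
  have := congrArg Subtype.val (MulEquiv.congr_fun (MonoidHom.mem_ker.1 (hle ha)) ⟨v, hv⟩)
  rwa [MulAut.conjNormal_apply] at this

/-- Every element over `N` is in the derived subgroup times the kernel. -/
theorem exists_commutator_lift {H : Type u} [Group H] (π : X →* H) (hπ : Function.Surjective π) (N : Subgroup H)
    (e : N ≃* SL(2, ZMod 5)) {v : X} (hv : π v ∈ N) : ∃ a ∈ commutator X, ∃ k ∈ π.ker, v = a * k := by
  have hNN : N ≤ (commutator X).map π := by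
    intro w hw
    have h1 : (⟨w, hw⟩ : N) ∈ commutator ↥N := by
      have : e.toMonoidHom (⟨w, hw⟩ : N) ∈ (commutator ↥N).map e.toMonoidHom := by
        rw [map_commutator_eq, MonoidHom.range_eq_top.2 e.surjective, ← _root_.commutator_def, sl_five_perfect]
        exact mem_top _
      obtain ⟨w', hw', hh⟩ := this
      exact e.injective hh ▸ hw'
    have h2 : w ∈ (commutator ↥N).map N.subtype := ⟨_, h1, rfl⟩
    rw [map_subtype_commutator] at h2
    rw [_root_.commutator_def, map_commutator, map_top_of_surjective π hπ]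
    exact commutator_mono le_top le_top h2
  obtain ⟨a, ha, hav⟩ := hNN hv
  exact ⟨a, ha, a⁻¹ * v, by rw [MonoidHom.mem_ker, map_mul, map_inv, hav, inv_mul_cancel],
    (mul_inv_cancel_left _ _).symm⟩

/-- No normal subgroup of order 5 lies in the kernel. -/
theorem no_five_kernel {H : Type u} [Group H] [Finite H] (π : X →* H) (hπ : Function.Surjective π) (N : Subgroup H)
    (hNc : Nat.card N = 120) (h25 : ¬ 25 ∣ Nat.card H) (e : N ≃* SL(2, ZMod 5)) (P : Sylow 5 X) [IsCyclic (P : Subgroup X)]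
    (Ω : Subgroup X) [Ω.Normal] (hΩ : Nat.card Ω = 5) (hker : Ω ≤ π.ker) : False := by
  haveI : IsCyclic Ω := isCyclic_of_prime_card hΩ
  set D := centralizer (Ω : Set X) with hD
  haveI : D.Normal := inferInstance
  have hΩP : Ω ≤ (P : Subgroup X) := by
    have hp : IsPGroup 5 Ω := IsPGroup.of_card (n := 1) (by rw [hΩ, pow_one])
    refine ((le_inf le_rfl ?_).trans (hp.inf_normalizer_sylow P).le).trans inf_le_right
    obtain ⟨Q, hQ⟩ := hp.exists_le_sylow
    obtain ⟨g, hg⟩ := MulAction.exists_smul_eq X Q P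
    refine le_trans (fun v hv => ?_) le_normalizer
    have h1 : g⁻¹ * v * g ∈ Q := hQ (by simpa using (inferInstance : Ω.Normal).conj_mem v hv g⁻¹)
    rw [← hg]
    exact ⟨g⁻¹ * v * g, h1, by show g * (g⁻¹ * v * g) * g⁻¹ = v; group⟩
  have hPD : (P : Subgroup X) ≤ D := fun v hv => mem_centralizer_iff.2 fun w hw => by
    letI : CommGroup (P : Subgroup X) := IsCyclic.commGroup
    exact congrArg Subtype.val (mul_comm (⟨w, hΩP hw⟩ : (P : Subgroup X)) ⟨v, hv⟩)
  obtain ⟨y₀, hy₀⟩ : ∃ y₀ : N, orderOf y₀ = 5 := exists_prime_orderOf_dvd_card' 5 (by rw [hNc]; norm_num)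
  obtain ⟨Q, hQ⟩ := (show IsPGroup 5 (zpowers (y₀ : H)) from IsPGroup.of_card (n := 1) (by
    rw [Nat.card_zpowers, Subgroup.orderOf_coe, hy₀, pow_one])).exists_le_sylow
  obtain ⟨h, hh⟩ := MulAction.exists_smul_eq H Q (P.mapSurjective hπ)
  -- an element of order five of `N` in the image of `P`
  obtain ⟨y', hy'P, hy'N, hy'o⟩ : ∃ y' : X, y' ∈ (P : Subgroup X) ∧ π y' = h * y₀ * h⁻¹ ∧ orderOf (π y') = 5 := by
    have hm : h * (y₀ : H) * h⁻¹ ∈ (P : Subgroup X).map π := by
      show h * (y₀ : H) * h⁻¹ ∈ ((P.mapSurjective hπ : Sylow 5 H) : Subgroup H)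
      rw [← hh]
      exact ⟨y₀, hQ (mem_zpowers _), rfl⟩
    obtain ⟨y', hy', e'⟩ := hm
    exact ⟨y', hy', e', by rw [e', ← MulAut.conj_apply, MulEquiv.orderOf_eq, Subgroup.orderOf_coe, hy₀]⟩
  obtain ⟨x, hx⟩ := hπ h
  set yx := x⁻¹ * y' * x with hyx
  have hyx' : π yx = y₀ := by rw [hyx, map_mul, map_mul, map_inv, hx, hy'N]; group
  set P' := x⁻¹ • P with hP'
  have hyxP : yx ∈ (P' : Subgroup X) := ⟨y', hy'P, by show x⁻¹ * y' * x⁻¹⁻¹ = yx; rw [inv_inv]⟩
  have hP'D : (P' : Subgroup X) ≤ D := by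
    rintro _ ⟨v, hv, rfl⟩
    show x⁻¹ * v * x⁻¹⁻¹ ∈ D
    exact (inferInstance : D.Normal).conj_mem v (hPD hv) x⁻¹
  haveI : IsCyclic (P' : Subgroup X) := (P.equiv P').isCyclic.1 ‹_›
  have hΩP' : Ω ≤ (P' : Subgroup X) := fun w hw =>
    ⟨x * w * x⁻¹, hΩP ((inferInstance : Ω.Normal).conj_mem w hw x), by
      show x⁻¹ * (x * w * x⁻¹) * x⁻¹⁻¹ = w; group⟩
  -- an element of `N` inverting it, lifted into `D`
  obtain ⟨g, hg⟩ := sl_five_invert (e y₀)
  obtain ⟨v₀, hv₀⟩ := hπ ((e.symm g : N) : H)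
  obtain ⟨v₁, hv₁c, k, hk, hv₀'⟩ := exists_commutator_lift π hπ N e (v := v₀) (by rw [hv₀]; exact (e.symm g).2)
  have hv₁ : π v₁ = (e.symm g : N) := by
    rw [← hv₀, hv₀', map_mul, MonoidHom.mem_ker.1 hk, mul_one]
  have hv₁D : v₁ ∈ D := mem_centralizer_iff.2 fun w hw => (mul_inv_eq_iff_eq_mul.1 (commutator_fix_cyclic Ω hv₁c hw)).symm
  have hinv : (e.symm g : N) * (y₀ : N) * (e.symm g : N)⁻¹ = y₀⁻¹ := by
    refine e.injective ?_
    rw [map_mul, map_mul, map_inv, map_inv, e.apply_symm_apply, hg, mul_inv_cancel_right]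
  -- adjusting it to normalize the Sylow subgroup
  set T := D ⊓ (zpowers (y₀ : H)).comap π with hT
  have hP'T : (P' : Subgroup X) ≤ T := fun v hv => ⟨hP'D hv, by
    show π v ∈ zpowers (y₀ : H)
    have hp : IsPGroup 5 ((P' : Subgroup X).map π) := P'.2.map _
    have heq : zpowers (y₀ : H) = (P' : Subgroup X).map π := by
      refine eq_of_le_of_card_ge (zpowers_le.2 ⟨yx, hyxP, hyx'⟩) ?_
      by_contra hlt
      push Not at hlt
      -- otherwise an element of order 25
      obtain ⟨j, hj⟩ := IsPGroup.iff_card.1 hp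
      rw [Nat.card_zpowers, Subgroup.orderOf_coe, hy₀, hj] at hlt
      exact absurd hlt (not_lt.2 (le_of_le_of_eq (Nat.pow_le_pow_right (by norm_num) (show j ≤ 1 by
        by_contra hc
        have h25' : 25 ∣ Nat.card H := by
          refine (show 25 ∣ 5 ^ j from ?_).trans (hj ▸ card_subgroup_dvd_card _)
          rw [show (25 : ℕ) = 5 ^ 2 by norm_num]; exact pow_dvd_pow 5 (by omega)
        exact h25 h25')) (pow_one 5)))
    rw [heq]; exact ⟨v, hv, rfl⟩⟩
  have hv₁T : ∀ v ∈ T, v₁ * v * v₁⁻¹ ∈ T := fun v hv => ⟨(inferInstance : D.Normal).conj_mem v hv.1 v₁, by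
    obtain ⟨i, hi⟩ := mem_zpowers_iff.1 (show π v ∈ zpowers (y₀ : H) from hv.2)
    refine mem_zpowers_iff.2 ⟨-i, ?_⟩
    rw [map_mul, map_mul, map_inv, hv₁, ← hi, ← conj_zpow]
    have := congrArg (fun q : N => (q : H)) hinv
    simp only [Subgroup.coe_mul, Subgroup.coe_inv] at this
    rw [this, inv_zpow, zpow_neg]⟩
  have hv₁P : (v₁ • P' : Sylow 5 X).1 ≤ T := by
    rintro _ ⟨v, hv, rfl⟩
    exact hv₁T v (hP'T hv)
  obtain ⟨t, ht⟩ := MulAction.exists_smul_eq T ((v₁ • P').subtype hv₁P) (P'.subtype hP'T)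
  have htP : ((t : X) * v₁) • P' = P' := by
    rw [mul_smul]
    exact Sylow.subtype_injective (hP := by
      rintro _ ⟨v, hv, rfl⟩
      exact mul_mem (mul_mem t.2 (hv₁P hv)) (inv_mem t.2)) (hQ := hP'T) ((Sylow.smul_subtype hv₁P t).symm.trans ht)
  set w := (t : X) * v₁
  have hwD : w ∈ D := mul_mem t.2.1 hv₁D
  obtain ⟨i, hi⟩ := mem_zpowers_iff.1 (show π (t : X) ∈ zpowers (y₀ : H) from t.2.2)
  -- a power prime to 5 centralizes `P'`
  set n := orderOf w
  set A := 5 ^ n.factorization 5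
  set u := w ^ A with hu
  have hun : u ∈ normalizer ((P' : Subgroup X) : Set X) := pow_mem (Sylow.smul_eq_iff_mem_normalizer.1 htP) _
  have huo : (orderOf u).Coprime 5 := by
    have hn : n ≠ 0 := (orderOf_pos w).ne'
    have hdv : orderOf u = n / A := by
      rw [hu, orderOf_pow, Nat.gcd_eq_right (Nat.ordProj_dvd n 5)]
    rw [hdv]
    exact (Nat.coprime_ordCompl Nat.prime_five hn).symm
  obtain ⟨⟨o, hoΩ⟩, ho5⟩ := exists_prime_orderOf_dvd_card' (G := Ω) 5 (by rw [hΩ])
  have ho1 : o ≠ 1 := fun h => by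
    rw [Subgroup.orderOf_mk, h, orderOf_one] at ho5; omega
  have huc : u ∈ centralizer ((P' : Subgroup X) : Set X) := centralizes_of_fix P'.2 hun huo (hΩP' hoΩ) ho1
    (mem_centralizer_iff.1 (pow_mem hwD A) o hoΩ).symm
  -- but it inverts `y₀`
  have hodd : Odd A := (show Odd 5 by decide).pow
  have hπu : ∀ j : ℕ, Odd j → π w ^ j * (y₀ : H) * (π w ^ j)⁻¹ = (y₀ : H)⁻¹ := by
    have h1 : π w * (y₀ : H) * (π w)⁻¹ = (y₀ : H)⁻¹ := by
      have := congrArg (fun q : N => (q : H)) hinv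
      simp only [Subgroup.coe_mul, Subgroup.coe_inv] at this
      rw [show π w = π (t : X) * π v₁ from map_mul _ _ _, ← hi, hv₁]
      calc _ = (y₀ : H) ^ i * (((e.symm g : N) : H) * y₀ * ((e.symm g : N) : H)⁻¹) * ((y₀ : H) ^ i)⁻¹ := by group
        _ = _ := by rw [this]; group
    have h2 : ∀ j : ℕ, π w ^ (2 * j) * (y₀ : H) * (π w ^ (2 * j))⁻¹ = y₀ := fun j => by
      induction j with
      | zero => simp
      | succ j ih =>
        calc π w ^ (2 * (j + 1)) * (y₀ : H) * (π w ^ (2 * (j + 1)))⁻¹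
            = π w ^ (2 * j) * (π w * (π w * y₀ * (π w)⁻¹) * (π w)⁻¹) * (π w ^ (2 * j))⁻¹ := by
              rw [show 2 * (j + 1) = 2 * j + 1 + 1 by ring, pow_succ, pow_succ]; group
          _ = _ := by rw [h1, ← conj_inv, h1, inv_inv, ih]
    rintro j ⟨q, rfl⟩
    calc π w ^ (2 * q + 1) * (y₀ : H) * (π w ^ (2 * q + 1))⁻¹
        = π w ^ (2 * q) * (π w * y₀ * (π w)⁻¹) * (π w ^ (2 * q))⁻¹ := by rw [pow_succ]; group
      _ = _ := by rw [h1, ← conj_inv, h2]
  have h3 := hπu A hodd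
  have h4 : π u * (y₀ : H) * (π u)⁻¹ = y₀ := by
    rw [← hyx', ← map_inv, ← map_mul, ← map_mul, ← mem_centralizer_iff.1 huc yx hyxP, mul_inv_cancel_right]
  rw [show π u = π w ^ A from map_pow π w A, h3, inv_eq_iff_mul_eq_one, ← pow_two] at h4
  have h5 : orderOf (y₀ : H) ∣ 2 := orderOf_dvd_of_pow_eq_one h4
  rw [Subgroup.orderOf_coe, hy₀] at h5
  norm_num at h5

/-- An element of order 5 over `N` centralizes a kernel with cyclic Sylow subgroups and order prime to 5. -/
theorem five_centralizes {H : Type u} [Group H] (π : X →* H) (hπ : Function.Surjective π) (N : Subgroup H)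
    (e : N ≃* SL(2, ZMod 5)) [IsZGroup ↥π.ker] (h5 : ¬ 5 ∣ Nat.card π.ker) {y : X} (hy : orderOf y = 5)
    (hyN : π y ∈ N) : ∀ k ∈ π.ker, y * k = k * y := by
  set K := π.ker with hK
  set A : Subgroup X := ⁅K, K⁆ with hA
  haveI : A.Normal := commutator_normal K K
  haveI : IsCyclic A := by
    haveI := IsZGroup.isCyclic_commutator (G := ↥K)
    have e' : (commutator ↥K).map K.subtype = A := map_subtype_commutator K
    exact ((commutator ↥K).equivMapOfInjective K.subtype K.subtype_injective).trans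
      (MulEquiv.subgroupCongr e') |>.isCyclic.1 inferInstance
  obtain ⟨a, hac, k₀, hk₀, hyd⟩ := exists_commutator_lift π hπ N e hyN
  have hy5 : y ^ 5 = 1 := by
    have h := pow_orderOf_eq_one y
    rwa [hy] at h
  have hAK : A ≤ K := commutator_le_left K K
  have hcopK : ∀ v ∈ K, (orderOf v).Coprime 5 := fun v hv =>
    (((Nat.prime_five).coprime_iff_not_dvd.2 h5).symm).coprime_dvd_left (Subgroup.orderOf_dvd_natCard _ hv)
  have hact : ∀ v ∈ A, y * v * y⁻¹ = k₀ * v * k₀⁻¹ := by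
    intro v hv
    rw [hyd]
    calc a * k₀ * v * (a * k₀)⁻¹ = a * (k₀ * v * k₀⁻¹) * a⁻¹ := by group
      _ = _ := commutator_fix_cyclic A hac ((inferInstance : A.Normal).conj_mem v hv k₀)
  have hcA : ∀ v ∈ A, y * v = v * y := by
    intro v hv
    have hn : ∀ n : ℕ, ∀ v ∈ A, y ^ n * v * (y ^ n)⁻¹ = k₀ ^ n * v * (k₀ ^ n)⁻¹ := by
      intro n
      induction n with
      | zero => simp
      | succ n ih =>
        intro v hv
        calc y ^ (n + 1) * v * (y ^ (n + 1))⁻¹ = y ^ n * (y * v * y⁻¹) * (y ^ n)⁻¹ := by rw [pow_succ]; group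
          _ = k₀ ^ n * (k₀ * v * k₀⁻¹) * (k₀ ^ n)⁻¹ := by
            rw [hact v hv, ih _ ((inferInstance : A.Normal).conj_mem v hv k₀)]
          _ = _ := by rw [pow_succ]; group
    have h := hn 5 v hv
    rw [hy5, one_mul, inv_one, mul_one] at h
    have hc : Commute (k₀ ^ 5) v := mul_inv_eq_iff_eq_mul.1 h.symm
    obtain ⟨d, hd⟩ := exists_pow_eq_self_of_coprime (n := 5) (x := k₀) (hcopK k₀ hk₀).symm
    have hc0 : Commute k₀ v := hd ▸ hc.pow_left d
    rw [← mul_inv_eq_iff_eq_mul, hact v hv, mul_inv_eq_iff_eq_mul]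
    exact hc0.eq
  -- the abelian quotient
  set q := QuotientGroup.mk' A
  haveI : (K.map q).Normal := (inferInstance : K.Normal).map _ (QuotientGroup.mk'_surjective A)
  let f : Abelianization ↥K →* ↥(K.map q) :=
    @Abelianization.lift ↥K _ ↥(K.map q)
      { (inferInstance : Group ↥(K.map q)) with
        mul_comm := by
          rintro ⟨_, v, hv, rfl⟩ ⟨_, w, hw, rfl⟩
          refine Subtype.ext ?_
          show q v * q w = q w * q v
          rw [← commutatorElement_eq_one_iff_mul_comm, ← map_commutatorElement, ← MonoidHom.mem_ker,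
            QuotientGroup.ker_mk']
          exact commutator_mem_commutator hv hw }
      (q.subgroupMap K)
  have hfs : Function.Surjective f := fun v => by
    obtain ⟨w, hw⟩ := q.subgroupMap_surjective K v
    exact ⟨Abelianization.of w, hw⟩
  haveI : IsCyclic (Abelianization ↥K) := IsZGroup.isCyclic_abelianization
  haveI : IsCyclic ↥(K.map q) := isCyclic_of_surjective f hfs
  intro k hk
  have hq : q (y * k * y⁻¹) = q k := by
    have hab : q k₀ * q k = q k * q k₀ := by
      letI : CommGroup ↥(K.map q) := IsCyclic.commGroup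
      exact congrArg Subtype.val (mul_comm (⟨q k₀, k₀, hk₀, rfl⟩ : ↥(K.map q)) ⟨q k, k, hk, rfl⟩)
    rw [hyd, map_mul, map_mul, map_inv, map_mul]
    calc q a * q k₀ * q k * (q a * q k₀)⁻¹ = q a * (q k₀ * q k * (q k₀)⁻¹) * (q a)⁻¹ := by
          group
      _ = q a * q k * (q a)⁻¹ := by rw [hab, mul_inv_cancel_right]
      _ = q k := commutator_fix_cyclic (K.map q) (map_derivedSeries_le_derivedSeries q 1 ⟨a, by
          rwa [derivedSeries_one], rfl⟩ |> fun h => by rwa [derivedSeries_one] at h) (mem_map_of_mem q hk)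
  set c := k⁻¹ * (y * k * y⁻¹) with hc
  have hcmem : c ∈ A := by
    rw [← QuotientGroup.ker_mk' A, MonoidHom.mem_ker, map_mul, map_inv, hq, inv_mul_cancel]
  have hn : ∀ n : ℕ, y ^ n * k * (y ^ n)⁻¹ = k * c ^ n := by
    intro n
    induction n with
    | zero => simp
    | succ n ih =>
      have hyc : Commute y (c ^ n) := (show Commute y c from hcA c hcmem).pow_right n
      calc y ^ (n + 1) * k * (y ^ (n + 1))⁻¹ = y * (y ^ n * k * (y ^ n)⁻¹) * y⁻¹ := by rw [pow_succ']; group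
        _ = y * k * (c ^ n * y⁻¹) := by rw [ih]; group
        _ = y * k * (y⁻¹ * c ^ n) := by rw [hyc.inv_left.eq]
        _ = k * c ^ (n + 1) := by
            rw [pow_succ' c n, show y * k * (y⁻¹ * c ^ n) = y * k * y⁻¹ * c ^ n by group,
              show y * k * y⁻¹ = k * c by rw [hc, mul_inv_cancel_left], mul_assoc]
  have h := hn 5
  rw [hy5, one_mul, inv_one, mul_one, left_eq_mul] at h
  have hc1 : c = 1 := orderOf_eq_one_iff.1 (Nat.eq_one_of_dvd_coprimes (hcopK c (hAK hcmem))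
    dvd_rfl (orderOf_dvd_of_pow_eq_one h))
  rw [hc, inv_mul_eq_one] at hc1
  exact mul_inv_eq_iff_eq_mul.1 hc1.symm

end Cfsg.Lib.SemiCyclic
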