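import Cfsg.Agent.SemiCyclic.Basic

/-!
# The arithmetic of the exclusion

The order formula and the degree equation, together with the Sylow orders at the primes dividing `p (p^2 - 1)`,
leave the single case `p = 5`, index `357 c^2`.
-/

set_option autoImplicit false
set_option linter.style.haveILetI false

namespace Cfsg.Lib.SemiCyclic

theorem sgnPrime_facts {p : ℕ} (hp : p.Prime) (h3 : 3 ≤ p) :
    (sgnPrime p).natAbs = p ∧ (4 : ℤ) ∣ sgnPrime p + 1 ∧ ¬ (4 : ℤ) ∣ sgnPrime p - 1 := by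
  have hodd : p % 2 = 1 := Nat.odd_iff.1 (hp.odd_of_ne_two (by omega))
  unfold sgnPrime
  split <;> refine ⟨by omega, by omega, by omega⟩

/-- The divisibility at one prime. -/
theorem val_le {r : ℕ} [hr : Fact r.Prime] {p : ℕ} (hp : p.Prime) (h3 : 3 ≤ p) {Q f : ℤ}
    (hQa : Q.natAbs = p) (h4 : (4 : ℤ) ∣ Q + 1) (h4' : ¬ (4 : ℤ) ∣ Q - 1) (hf : Even f)
    {N c : ℕ} (hN : Odd N) (hm : f - Q + 1 ≠ 0)
    (hord : padicValNat r N + 2 * padicValInt r (f - Q + 1) =
      2 * padicValNat r c + padicValInt r Q + 2 * padicValInt r (Q + 1) + padicValInt r (Q - 1) +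
        padicValInt r f + padicValInt r (f + 1))
    (hf0 : f ≠ 0)
    (δ : ℕ) (hδ : r ≠ 2 → (r : ℤ) ∣ Q * (Q ^ 2 - 1) → padicValNat r N ≤ δ)
    (hδp : r = p → δ = 0) (hδa : (r : ℤ) ∣ Q + 1 → r ≠ 2 → δ = 0) :
    padicValInt r (Q * (Q ^ 2 - 1)) ≤ padicValInt r (f - Q + 1) + δ := by
  have hQ0 : Q ≠ 0 := by intro h; simp [h] at hQa; omega
  have ha0 : Q + 1 ≠ 0 := by intro h; omega
  have hb0 : Q - 1 ≠ 0 := by intro h; omega
  have hval : padicValInt r (Q * (Q ^ 2 - 1)) =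
      padicValInt r Q + (padicValInt r (Q + 1) + padicValInt r (Q - 1)) := by
    rw [show Q ^ 2 - 1 = (Q + 1) * (Q - 1) by ring, padicValInt.mul hQ0 (mul_ne_zero ha0 hb0),
      padicValInt.mul ha0 hb0]
  have hz : ∀ x : ℤ, ¬ (r : ℤ) ∣ x → padicValInt r x = 0 := fun x hx => padicValInt.eq_zero_of_not_dvd hx
  have hpos : ∀ x : ℤ, x ≠ 0 → (r : ℤ) ∣ x → 1 ≤ padicValInt r x := by
    intro x hx hd
    have h := (padicValInt_dvd_iff 1 x).1 (by simpa using hd)
    exact h.resolve_left hx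
  by_cases hr2 : r = 2
  · subst hr2
    have hN0 : padicValNat 2 N = 0 :=
      padicValNat.eq_zero_of_not_dvd fun h => Nat.not_even_iff_odd.2 hN (even_iff_two_dvd.2 h)
    have hQ : padicValInt 2 Q = 0 := hz _ (by push_cast; omega)
    have hb : padicValInt 2 (Q - 1) ≤ 1 := by
      by_contra hc
      exact h4' (by simpa using (padicValInt_dvd_iff (p := 2) 2 (Q - 1)).2 (Or.inr (by omega)))
    have hb1 := hpos (Q - 1) hb0 (by push_cast; omega)
    have hf1 := hpos f hf0 (by push_cast; exact even_iff_two_dvd.1 hf)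
    omega
  by_cases hdQ : (r : ℤ) ∣ Q * (Q ^ 2 - 1)
  swap
  · rw [hz _ hdQ]; exact Nat.zero_le _
  have hN' := hδ hr2 hdQ
  have hr' : Prime (r : ℤ) := Nat.prime_iff_prime_int.1 hr.out
  have hnot2 : ¬ (r : ℤ) ∣ 2 := fun h => by
    have h' : r ∣ 2 := by exact_mod_cast h
    exact hr2 ((Nat.prime_dvd_prime_iff_eq hr.out Nat.prime_two).1 h')
  have hnot1 : ¬ (r : ℤ) ∣ 1 := fun h => hr'.not_unit (isUnit_of_dvd_one h)
  rcases hr'.dvd_or_dvd hdQ with hd | hd
  · -- `r = p`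
    have hrp : r = p := by
      have h' : r ∣ p := hQa ▸ Int.natCast_dvd.1 hd
      exact (Nat.prime_dvd_prime_iff_eq hr.out hp).1 h'
    have hδ0 := hδp hrp
    have hQ1 : padicValInt r Q = 1 := by
      unfold padicValInt
      rw [hQa, hrp]
      haveI := Fact.mk hp
      exact padicValNat_self
    have ha : padicValInt r (Q + 1) = 0 := hz _ fun h => hnot1 (by simpa using dvd_sub h hd)
    have hb : padicValInt r (Q - 1) = 0 := hz _ fun h => hnot1 (by simpa using dvd_sub hd h)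
    omega
  rw [show Q ^ 2 - 1 = (Q + 1) * (Q - 1) by ring] at hd
  have hQ : padicValInt r Q = 0 := hz _ fun h => by
    rcases hr'.dvd_or_dvd hd with hd' | hd'
    · exact hnot1 (by simpa using dvd_sub hd' h)
    · exact hnot1 (by simpa using dvd_sub h hd')
  rcases hr'.dvd_or_dvd hd with hd' | hd'
  · have hb : padicValInt r (Q - 1) = 0 := hz _ fun h => hnot2 (by simpa [← sub_add, show (1 : ℤ) + 1 = 2 by norm_num] using dvd_sub hd' h)
    have hδ0 := hδa hd' hr2
    omega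
  have ha : padicValInt r (Q + 1) = 0 := hz _ fun h => hnot2 (by simpa [← sub_add, show (1 : ℤ) + 1 = 2 by norm_num] using dvd_sub h hd')
  -- `f - Q + 1 = f - (Q - 1)`
  by_cases hle : padicValInt r (Q - 1) ≤ padicValInt r f
  · have h1 : (r : ℤ) ^ padicValInt r (Q - 1) ∣ f - Q + 1 := by
      rw [show f - Q + 1 = f - (Q - 1) by ring]
      exact dvd_sub ((padicValInt_dvd_iff _ _).2 (Or.inr hle)) (padicValInt_dvd _)
    have h2 := ((padicValInt_dvd_iff _ _).1 h1).resolve_left hm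
    omega
  · have h2 : padicValInt r (f - Q + 1) ≤ padicValInt r f := by
      by_contra hc
      have d1 : (r : ℤ) ^ (padicValInt r f + 1) ∣ f - Q + 1 :=
        (padicValInt_dvd_iff _ _).2 (Or.inr (by omega))
      have d2 : (r : ℤ) ^ (padicValInt r f + 1) ∣ Q - 1 :=
        (padicValInt_dvd_iff _ _).2 (Or.inr (by omega))
      have h3 : (r : ℤ) ^ (padicValInt r f + 1) ∣ f := by
        simpa [show (f - Q + 1) + (Q - 1) = f by ring] using dvd_add d1 d2
      have h4 := ((padicValInt_dvd_iff _ _).1 h3).resolve_left hf0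
      omega
    omega

/-- An integer dividing another, read off the valuations. -/
theorem int_dvd_of_val {x y : ℤ} (hx : x ≠ 0) (hy : y ≠ 0)
    (h : ∀ r : ℕ, r.Prime → padicValInt r x ≤ padicValInt r y) : x ∣ y := by
  rw [← Int.natAbs_dvd_natAbs, ← Nat.factorization_le_iff_dvd (Int.natAbs_ne_zero.2 hx) (Int.natAbs_ne_zero.2 hy)]
  intro r
  by_cases hr : r.Prime
  · rw [Nat.factorization_def _ hr, Nat.factorization_def _ hr]
    exact h r hr
  · simp [Nat.factorization_eq_zero_of_not_prime _ hr]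

/-- The case `p = 3`. -/
theorem three_case {N c : ℕ} {f g : ℤ} (hN : Odd N) (hc : 0 < c) (hf : Even f) (hf0 : f ≠ 0)
    (hg : (((3 : ℤ)) ^ 2 - 1 - f) * g = (3 : ℤ) ^ 2 * f)
    (hord : (N : ℤ) * (f - 3 + 1) ^ 2 = (c : ℤ) ^ 2 * 3 * (3 + 1) * ((3 : ℤ) ^ 2 - 1) * (f * (f + 1)))
    (h3 : ¬ 3 ∣ N) : False := by
  have hd : (8 - f) ∣ 72 := ⟨g + 9, by linear_combination -hg⟩
  have hle : (8 - f).natAbs ≤ 72 := Nat.le_of_dvd (by norm_num) (Int.natAbs_dvd_natAbs.2 hd)
  have hlo : -64 ≤ f := by omega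
  have hhi : f ≤ 80 := by omega
  have hC : 0 < (c : ℤ) ^ 2 := pow_pos (by exact_mod_cast hc) 2
  have hN2 : N % 2 = 1 := Nat.odd_iff.1 hN
  generalize hC' : (c : ℤ) ^ 2 = C at hord hC
  clear hC' hd hle
  interval_cases f <;> first | (norm_num at hg; omega) | (norm_num at hf; done) | (norm_num at hord; omega) | omega

/-- The facts used from the group. -/
theorem order_cases {p : ℕ} (hp : p.Prime) (h3 : 3 ≤ p) {Q : ℤ} (hQ : Q = sgnPrime p) {N c : ℕ} {f g : ℤ}
    (hN : Odd N) (hc : 0 < c) (hf : Even f) (hf0 : f ≠ 0)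
    (hg : (Q ^ 2 - 1 - f) * g = Q ^ 2 * f)
    (hord : (N : ℤ) * (f - Q + 1) ^ 2 = (c : ℤ) ^ 2 * Q * (Q + 1) * (Q ^ 2 - 1) * (f * (f + 1)))
    (h0 : ∀ r : ℕ, r.Prime → r ≠ 2 → (r : ℤ) ∣ Q * (Q ^ 2 - 1) →
      ¬ (r = 3 ∧ (3 : ℤ) ∣ Q - 1) → ¬ r ∣ N)
    (h1 : (3 : ℤ) ∣ Q - 1 → ¬ 9 ∣ N) :
    p = 5 ∧ N = 357 * c ^ 2 ∧ f = 34 := by
  obtain ⟨hQa, h4, h4'⟩ := sgnPrime_facts hp h3
  rw [← hQ] at hQa h4 h4'
  have hQ0 : Q ≠ 0 := by intro h; simp [h] at hQa; omega
  have ha0 : Q + 1 ≠ 0 := by intro h; omega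
  have hb0 : Q - 1 ≠ 0 := by intro h; omega
  have hf1 : f + 1 ≠ 0 := by
    intro h
    obtain ⟨t, rfl⟩ := hf
    omega
  have hsq : Q ^ 2 - 1 ≠ 0 := by
    rw [show Q ^ 2 - 1 = (Q + 1) * (Q - 1) by ring]
    exact mul_ne_zero ha0 hb0
  have hc0 : (c : ℤ) ≠ 0 := by omega
  have hN0 : (N : ℤ) ≠ 0 := by
    obtain ⟨t, rfl⟩ := hN
    omega
  have hm : f - Q + 1 ≠ 0 := by
    intro h
    rw [h] at hord
    have hne : (c : ℤ) ^ 2 * Q * (Q + 1) * (Q ^ 2 - 1) * (f * (f + 1)) ≠ 0 :=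
      mul_ne_zero (mul_ne_zero (mul_ne_zero (mul_ne_zero (pow_ne_zero _ hc0) hQ0) ha0) hsq) (mul_ne_zero hf0 hf1)
    exact hne (by rw [← hord]; ring)
  have hval : ∀ r : ℕ, r.Prime → padicValNat r N + 2 * padicValInt r (f - Q + 1) =
      2 * padicValNat r c + padicValInt r Q + 2 * padicValInt r (Q + 1) + padicValInt r (Q - 1) +
        padicValInt r f + padicValInt r (f + 1) := by
    intro r hr
    haveI := Fact.mk hr
    have e := congrArg (padicValInt r) hord
    rw [show Q ^ 2 - 1 = (Q + 1) * (Q - 1) by ring, pow_two, pow_two, padicValInt.mul hN0 (mul_ne_zero hm hm),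
      padicValInt.mul hm hm, padicValInt.mul, padicValInt.mul, padicValInt.mul, padicValInt.mul, padicValInt.mul,
      padicValInt.mul, padicValInt.mul, padicValInt.of_nat, padicValInt.of_nat] at e
    · omega
    all_goals first
      | assumption
      | exact mul_ne_zero ha0 hb0
      | exact mul_ne_zero hf0 hf1
      | exact mul_ne_zero hc0 hc0
      | exact mul_ne_zero (mul_ne_zero hc0 hc0) hQ0
      | exact mul_ne_zero (mul_ne_zero (mul_ne_zero hc0 hc0) hQ0) ha0
      | exact mul_ne_zero (mul_ne_zero (mul_ne_zero (mul_ne_zero hc0 hc0) hQ0) ha0) (mul_ne_zero ha0 hb0)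
  have hNv : ∀ r : ℕ, r.Prime → r ≠ 2 → (r : ℤ) ∣ Q * (Q ^ 2 - 1) →
      ¬ (r = 3 ∧ (3 : ℤ) ∣ Q - 1) → padicValNat r N = 0 :=
    fun r hr h2 hd hx => padicValNat.eq_zero_of_not_dvd (h0 r hr h2 hd hx)
  have hD0 : Q * (Q ^ 2 - 1) ≠ 0 := mul_ne_zero hQ0 hsq
  -- three times the unit
  have h3m : Q * (Q ^ 2 - 1) ∣ 3 * (f - Q + 1) := by
    refine int_dvd_of_val hD0 (mul_ne_zero (by norm_num) hm) fun r hr => ?_
    haveI := Fact.mk hr
    rw [padicValInt.mul (by norm_num) hm]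
    have h := val_le hp h3 hQa h4 h4' hf hN hm (hval r hr) hf0
      (if r = 3 ∧ (3 : ℤ) ∣ Q - 1 then 1 else 0) (fun h2 hd => ?_) (fun hrp => ?_) (fun hd h2 => ?_)
    · have h' : (if r = 3 ∧ (3 : ℤ) ∣ Q - 1 then 1 else 0) ≤ padicValInt r 3 := by
        split
        · next hx => rw [hx.1]; exact le_of_eq (padicValInt.self (by norm_num)).symm
        · exact Nat.zero_le _
      omega
    · split
      · next hx =>
        by_contra hc'
        have h9 : 3 ^ 2 ∣ N := by
          rw [hx.1] at hc'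
          exact (padicValNat_dvd_iff_le (hp := Fact.mk Nat.prime_three) (by omega)).2 (by omega)
        exact h1 hx.2 (by simpa using h9)
      · next hx => rw [hNv r hr h2 hd hx]
    · rw [if_neg]
      rintro ⟨rfl, hd⟩
      omega
    · rw [if_neg]
      rintro ⟨rfl, hd'⟩
      push_cast at hd
      omega
  obtain ⟨e, he⟩ := h3m
  -- the divisor
  have hp3 : p ≠ 3 := by
    rintro rfl
    have hQ3 : Q = 3 := by rw [hQ]; rfl
    subst hQ3
    exact three_case hN hc hf hf0 hg hord (h0 3 hp (by norm_num) (by norm_num) (by norm_num))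
  set k := 3 - (Q + 1) * e with hk
  have hfQ : 3 * f = (Q - 1) * (3 + Q * (Q + 1) * e) := by linear_combination he
  have hkey : k * g = Q * (3 + Q * (Q + 1) * e) := by
    have h : Q * (Q - 1) * (k * g) = Q * (Q - 1) * (Q * (3 + Q * (Q + 1) * e)) := by
      rw [hk]
      linear_combination 3 * hg + (Q ^ 2 + g) * hfQ
    exact mul_left_cancel₀ (mul_ne_zero hQ0 hb0) h
  have hkd : k ∣ Q * (3 * (Q + 1)) := ⟨g + Q ^ 2, by rw [hk] at hkey ⊢; linear_combination -hkey⟩
  -- `p` does not divide it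
  have hQp : IsCoprime k Q := by
    rw [Int.isCoprime_iff_gcd_eq_one, Int.gcd, hQa]
    refine Nat.Coprime.symm (hp.coprime_iff_not_dvd.2 fun hd => ?_)
    have hkQ : Q ∣ k := by
      rw [← Int.natAbs_dvd_natAbs, hQa]; exact hd
    haveI := Fact.mk hp
    have hv := hval p hp
    have hp2 : p ≠ 2 := by omega
    have hpd : (p : ℤ) ∣ Q := by rw [← hQa]; exact Int.natAbs_dvd.2 dvd_rfl
    rw [hNv p hp hp2 (dvd_mul_of_dvd_left hpd _) (by rintro ⟨rfl, h⟩; omega)] at hv
    have hm1 : 1 ≤ padicValInt p (f - Q + 1) := by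
      have hQ1 : padicValInt p Q = 1 := by
        unfold padicValInt; rw [hQa]; exact padicValNat_self
      omega
    have hQd : Q ∣ f - Q + 1 := by
      rw [← Int.natAbs_dvd, hQa]
      simpa using (padicValInt_dvd_iff 1 _).2 (Or.inr hm1)
    obtain ⟨a, ha⟩ := hQd
    obtain ⟨b, hb⟩ := hkQ
    have h3a : 3 * a = (Q ^ 2 - 1) * e := by
      refine mul_left_cancel₀ hQ0 ?_
      linear_combination he - 3 * ha
    -- `Q ^ 2` divides `3 (f + 1)`
    have h3f : 3 * (f + 1) = Q ^ 2 * (b + e + Q * e) := by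
      rw [hk] at hb
      linear_combination 3 * ha + Q * h3a + Q * hb
    have hQ1 : padicValInt p Q = 1 := by
      unfold padicValInt; rw [hQa]; exact padicValNat_self
    have hm' : padicValInt p (f - Q + 1) = 1 + padicValInt p a := by
      rw [ha, padicValInt.mul hQ0 (fun h => hm (by rw [ha, h, mul_zero])), hQ1]
    have h3p : p ≠ 3 := hp3
    have hpf : (p : ℤ) ^ 2 ∣ f + 1 := by
      have hd3 : (p : ℤ) ^ 2 ∣ 3 * (f + 1) := by
        rw [h3f]
        exact dvd_mul_of_dvd_left (pow_dvd_pow_of_dvd hpd 2) _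
      refine (IsCoprime.pow_left ?_).dvd_of_dvd_mul_left hd3
      rw [Int.isCoprime_iff_gcd_eq_one]
      exact (Nat.coprime_primes hp Nat.prime_three).2 h3p
    have hv2 := ((padicValInt_dvd_iff 2 _).1 hpf).resolve_left hf1
    have ha1 : padicValInt p a = 0 := by
      refine padicValInt.eq_zero_of_not_dvd fun hd' => ?_
      have h2 : (p : ℤ) ^ 2 ∣ Q := by
        have e' : Q = (f + 1) - Q * a := by linear_combination -ha
        rw [e']
        refine dvd_sub hpf ?_
        rw [pow_two]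
        exact mul_dvd_mul hpd hd'
      have := ((padicValInt_dvd_iff 2 _).1 h2).resolve_left hQ0
      omega
    omega
  have hk3 : k ∣ 3 * (Q + 1) := hQp.dvd_of_dvd_mul_left hkd
  have he0 : e ≠ 0 := by
    rintro rfl
    simp only [mul_zero] at he
    omega
  by_cases h3b : (3 : ℤ) ∣ Q - 1
  · -- `k` divides three
    have hk9 : k ∣ 9 := by
      have : k ∣ 3 * (Q + 1) * e := dvd_mul_of_dvd_left hk3 e
      have h2 : k ∣ 3 * k := dvd_mul_left _ _
      have := dvd_add this h2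
      rwa [show 3 * (Q + 1) * e + 3 * k = 9 by rw [hk]; ring] at this
    have hk3' : k ∣ 3 := by
      have hb : (9 : ℤ) ∣ k → False := fun h9 => by
        have h3' : (3 : ℤ) ∣ Q + 1 := by
          have := (dvd_trans h9 hk3)
          omega
        omega
      have hle : k.natAbs ≤ 9 := Nat.le_of_dvd (by norm_num) (Int.natAbs_dvd_natAbs.2 hk9)
      have hlo : -9 ≤ k := by omega
      have hhi : k ≤ 9 := by omega
      interval_cases k <;> first | (norm_num; done) | (norm_num at hk9; done) | exact (hb (by norm_num)).elim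
    have hle : k.natAbs ≤ 3 := Nat.le_of_dvd (by norm_num) (Int.natAbs_dvd_natAbs.2 hk3')
    have h4e : (4 : ℤ) ∣ (Q + 1) * e := h4.mul_right e
    have hne : (Q + 1) * e ≠ 0 := mul_ne_zero ha0 he0
    have hk1 : (Q + 1) * e = 4 := by omega
    have hd4 : Q + 1 ∣ 4 := ⟨e, hk1.symm⟩
    have h4le : (Q + 1).natAbs ≤ 4 := Nat.le_of_dvd (by norm_num) (Int.natAbs_dvd_natAbs.2 hd4)
    have hQ5 : Q = -5 := by
      obtain ⟨t, ht⟩ := h4
      omega
    subst hQ5
    have he1 : e = -1 := by omega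
    subst he1
    have hf34 : f = 34 := by omega
    subst hf34
    refine ⟨by omega, ?_, rfl⟩
    have : (N : ℤ) = 357 * (c : ℤ) ^ 2 := by linarith
    exact_mod_cast this
  · -- no factor three is lost
    exfalso
    have hD : Q * (Q ^ 2 - 1) ∣ f - Q + 1 := by
      refine int_dvd_of_val hD0 hm fun r hr => ?_
      haveI := Fact.mk hr
      exact le_trans (val_le hp h3 hQa h4 h4' hf hN hm (hval r hr) hf0 0
        (fun h2 hd => (hNv r hr h2 hd fun h => h3b h.2).le) (fun _ => rfl) (fun _ _ => rfl)) (by omega)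
    obtain ⟨e', he'⟩ := hD
    have hee : e = 3 * e' := by
      refine mul_left_cancel₀ hD0 ?_
      linear_combination 3 * he' - he
    set k' := 1 - (Q + 1) * e'
    have hk' : k = 3 * k' := by rw [hk, hee]; ring
    have h1' : k' ∣ Q + 1 := by
      rw [hk'] at hk3
      exact (mul_dvd_mul_iff_left (by norm_num)).1 hk3
    have hd1 : k' ∣ 1 := by
      have h2 := dvd_add (dvd_mul_of_dvd_left h1' e') (dvd_refl k')
      simpa [k'] using h2
    have h4e : (4 : ℤ) ∣ (Q + 1) * e' := h4.mul_right e'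
    have hne : (Q + 1) * e' ≠ 0 := mul_ne_zero ha0 (by omega)
    have := Int.isUnit_iff.1 (isUnit_of_dvd_one hd1)
    omega

end Cfsg.Lib.SemiCyclic
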