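import Cfsg.Agent.SemiCyclic.Shape

/-!
# The elements of a subgroup of odd order inverted by an involution, and a Frattini argument
-/

set_option autoImplicit false
set_option linter.style.haveILetI false
set_option linter.unusedSectionVars false

namespace Cfsg.Lib.SemiCyclic

open Subgroup

universe u

variable {G : Type u} [Group G] [Finite G]

/-- The elements inverted by `w` correspond to the cosets of its centralizer. -/
theorem card_inverted {W : Subgroup G} (hodd : Odd (Nat.card W)) {w : G} (hw2 : w * w = 1)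
    (hW : ∀ k ∈ W, w * k * w⁻¹ ∈ W) :
    Nat.card {k : G // k ∈ W ∧ w * k * w⁻¹ = k⁻¹} = ((centralizer ({w} : Set G)).subgroupOf W).index := by
  have hwi : w⁻¹ = w := inv_eq_of_mul_eq_one_right hw2
  rw [index_eq_card]
  have hmem : ∀ k : W, (k : G) * (w * (k : G)⁻¹ * w⁻¹) ∈ W ∧
      w * ((k : G) * (w * (k : G)⁻¹ * w⁻¹)) * w⁻¹ = ((k : G) * (w * (k : G)⁻¹ * w⁻¹))⁻¹ := by
    intro k
    refine ⟨mul_mem k.2 (hW _ (inv_mem k.2)), ?_⟩
    calc w * ((k : G) * (w * (k : G)⁻¹ * w⁻¹)) * w⁻¹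
        = w * (k : G) * w * (k : G)⁻¹ * (w * w)⁻¹ := by group
      _ = _ := by rw [hw2, inv_one, mul_one, mul_inv_rev, mul_inv_rev, mul_inv_rev, inv_inv, inv_inv, hwi]; group
  have hiff : ∀ a b : W, QuotientGroup.leftRel ((centralizer ({w} : Set G)).subgroupOf W) a b ↔
      (a : G) * (w * (a : G)⁻¹ * w⁻¹) = (b : G) * (w * (b : G)⁻¹ * w⁻¹) := fun a b => by
    rw [QuotientGroup.leftRel_apply, mem_subgroupOf, mem_centralizer_singleton_iff, Subgroup.coe_mul, Subgroup.coe_inv]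
    constructor
    · intro e
      calc (a : G) * (w * (a : G)⁻¹ * w⁻¹) = (a : G) * (w * ((a : G)⁻¹ * b)) * (b : G)⁻¹ * w⁻¹ := by group
        _ = (a : G) * ((a : G)⁻¹ * b * w) * (b : G)⁻¹ * w⁻¹ := by rw [e]
        _ = (b : G) * (w * (b : G)⁻¹ * w⁻¹) := by group
    · intro e
      calc (a : G)⁻¹ * b * w = (a : G)⁻¹ * ((b : G) * (w * (b : G)⁻¹ * w⁻¹)) * w * b := by group
        _ = (a : G)⁻¹ * ((a : G) * (w * (a : G)⁻¹ * w⁻¹)) * w * b := by rw [e]
        _ = w * ((a : G)⁻¹ * b) := by group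
  refine (Nat.card_congr (Equiv.ofBijective (Quotient.lift
    (fun k : W => (⟨_, hmem k⟩ : {k : G // k ∈ W ∧ w * k * w⁻¹ = k⁻¹}))
    (fun a b h => Subtype.ext ((hiff a b).1 h))) ⟨?_, ?_⟩)).symm
  · rintro ⟨a⟩ ⟨b⟩ h
    exact Quotient.sound ((hiff a b).2 (congrArg Subtype.val h))
  · rintro ⟨v, hv, hvi⟩
    have hn : Odd (orderOf v) := hodd.of_dvd_nat (Subgroup.orderOf_dvd_natCard _ hv)
    obtain ⟨m, hm⟩ := hn
    refine ⟨QuotientGroup.mk ⟨v ^ (m + 1), pow_mem hv _⟩, Subtype.ext ?_⟩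
    show v ^ (m + 1) * (w * (v ^ (m + 1))⁻¹ * w⁻¹) = v
    rw [← inv_pow, ← conj_pow, show w * v⁻¹ * w⁻¹ = v by rw [← conj_inv, hvi, inv_inv], ← pow_add,
      show m + 1 + (m + 1) = 2 * m + 1 + 1 by ring, pow_succ, ← hm, pow_orderOf_eq_one, one_mul]

/-- An odd subgroup `W` normal in `N` of order divisible by 4 has order prime to `r`, when `4 ∤ r - 1` and elements
of order `r` are centralized by no involution. -/
theorem not_dvd_of_normal_odd {r : ℕ} [hr : Fact r.Prime] (hr2 : r ≠ 2) (hr4 : ¬ 4 ∣ r - 1)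
    (hcyc : ∀ R : Sylow r G, IsCyclic ↥(R : Subgroup G))
    (hinv : ∀ y s : G, orderOf y = r → orderOf s = 2 → s * y ≠ y * s)
    (N W : Subgroup G) (hWN : W ≤ N) (hn : ∀ n ∈ N, ∀ w ∈ W, n * w * n⁻¹ ∈ W) (hodd : Odd (Nat.card W))
    (h4 : 4 ∣ Nat.card N) : ¬ r ∣ Nat.card W := by
  haveI : Fact (Nat.Prime 2) := ⟨Nat.prime_two⟩
  intro hd
  set W₀ := W.subgroupOf N with hW₀
  haveI : W₀.Normal := ⟨fun w hw n => mem_subgroupOf.2 (hn n n.2 w (mem_subgroupOf.1 hw))⟩
  have hc₀ : Nat.card W₀ = Nat.card W := Nat.card_congr (subgroupOfEquivOfLe hWN).toEquiv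
  obtain ⟨R : Sylow r W₀⟩ : Nonempty (Sylow r W₀) := inferInstance
  set R₁ : Subgroup N := (R : Subgroup W₀).map W₀.subtype with hR₁
  have hfr : normalizer (R₁ : Set N) ⊔ W₀ = ⊤ := Sylow.normalizer_sup_eq_top R
  set M := normalizer (R₁ : Set N) with hM
  have h4' : 2 ^ 2 ∣ Nat.card M := by
    have h1 : W₀.index ∣ Nat.card M := by
      rw [← relIndex_top_right, ← hfr, relIndex_sup_right]
      exact relIndex_dvd_card _ _
    rw [← W₀.card_mul_index, hc₀] at h4
    refine dvd_trans ?_ h1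
    exact ((Nat.coprime_two_left.2 hodd).pow_left 2).dvd_of_dvd_mul_left (by norm_num; exact h4)
  obtain ⟨E₀, hE₀⟩ := Sylow.exists_subgroup_card_pow_prime 2 h4'
  set R₂ : Subgroup G := R₁.map N.subtype with hR₂
  have hR₂p : IsPGroup r R₂ := (R.2.map _).map _
  obtain ⟨P, hP⟩ := hR₂p.exists_le_sylow
  haveI := hcyc P
  haveI : IsCyclic R₂ := isCyclic_of_injective (inclusion hP) (inclusion_injective hP)
  obtain ⟨k, hk⟩ := IsPGroup.iff_card.1 hR₂p
  have hk1 : k ≠ 0 := by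
    intro h
    have h2 : r ∣ Nat.card R₂ := by
      rw [hR₂, card_map_of_injective N.subtype_injective, hR₁, card_map_of_injective W₀.subtype_injective]
      exact R.dvd_card_of_dvd_card (hc₀ ▸ hd)
    rw [hk, h, pow_zero, Nat.dvd_one] at h2
    exact hr.out.ne_one h2
  obtain ⟨⟨y, hy⟩, hyo⟩ := exists_prime_orderOf_dvd_card' (G := R₂) r (by rw [hk]; exact dvd_pow_self r hk1)
  rw [Subgroup.orderOf_mk] at hyo
  set E : Subgroup G := (E₀.map M.subtype).map N.subtype with hE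
  have hEc : Nat.card E = 4 := by
    rw [hE, card_map_of_injective N.subtype_injective, card_map_of_injective M.subtype_injective, hE₀]; norm_num
  have hEn : E ≤ normalizer (R₂ : Set G) := by
    rw [hE, hR₂]
    exact (map_mono (map_subtype_le _)).trans (le_normalizer_map _)
  -- a kernel on the cyclic group
  set φ := R₂.normalizerMonoidHom.comp (inclusion hEn) with hφ
  haveI : Finite (MulAut R₂) := Finite.of_injective (fun f : MulAut R₂ => (f : R₂ → R₂)) DFunLike.coe_injective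
  have hker : φ.ker ≠ ⊥ := by
    intro h
    have hinj : Function.Injective φ := (MonoidHom.ker_eq_bot_iff φ).1 h
    have h1 := Subgroup.card_dvd_of_injective φ hinj
    rw [hEc, IsCyclic.card_mulAut, hk, Nat.totient_prime_pow hr.out (Nat.pos_of_ne_zero hk1)] at h1
    have hco : Nat.Coprime 4 (r ^ (k - 1)) := by
      rw [show (4 : ℕ) = 2 ^ 2 by norm_num]
      exact (((Nat.coprime_primes Nat.prime_two hr.out).2 (Ne.symm hr2))).pow 2 (k - 1)
    exact hr4 (hco.dvd_of_dvd_mul_left h1)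
  obtain ⟨⟨s, hs⟩, hsk, hs1⟩ := φ.ker.bot_or_exists_ne_one.resolve_left hker
  obtain ⟨t, ht, hts⟩ : ∃ t : E, orderOf t = 2 ∧ t ∈ φ.ker := by
    have hd2 : 2 ∣ Nat.card φ.ker := by
      obtain ⟨j, hj⟩ := IsPGroup.iff_card.1 ((IsPGroup.of_card (p := 2) (n := 2) (by rw [hEc]; norm_num) :
        IsPGroup 2 E).to_subgroup φ.ker)
      rcases Nat.eq_zero_or_pos j with rfl | hj0
      · exact absurd (eq_bot_of_card_eq _ (by simpa using hj)) hker
      · rw [hj]; exact dvd_pow_self 2 hj0.ne'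
    obtain ⟨t, ht⟩ := exists_prime_orderOf_dvd_card' 2 hd2
    exact ⟨t, by rw [Subgroup.orderOf_coe]; exact ht, t.2⟩
  refine hinv y t hyo ((Subgroup.orderOf_coe t).trans ht) ?_
  have h1 := MulEquiv.congr_fun (MonoidHom.mem_ker.1 hts) ⟨y, hy⟩
  have h2 : (t : G) * y * (t : G)⁻¹ = y := congrArg Subtype.val h1
  exact mul_inv_eq_iff_eq_mul.1 h2

end Cfsg.Lib.SemiCyclic
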