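import Cfsg.Agent.SemiCyclic.Kill.Orders
import Cfsg.Agent.SemiCyclic.Kill.Inverted
import Cfsg.Agent.SemiCyclic.Kill.Action
import Cfsg.Agent.SemiCyclic.Spec

/-!
# The surviving arithmetical case: `p = 5`, index `357`
-/

set_option autoImplicit false
set_option linter.style.haveILetI false
set_option linter.unusedSectionVars false

namespace Cfsg.Lib.SemiCyclic

open Subgroup
open scoped MatrixGroups commutatorElement

universe u

/-- A subgroup of a cyclic normal subgroup is normal. -/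
theorem zpowers_normal_of_cyclic {X : Type u} [Group X] (Y : Subgroup X) [Y.Normal] [IsCyclic Y] {x : X} (hx : x ∈ Y) :
    (zpowers x).Normal := ⟨fun v hv g => by
  obtain ⟨m, hm⟩ := MonoidHom.map_cyclic ((MulAut.conjNormal g : MulAut Y).toMonoidHom)
  obtain ⟨i, rfl⟩ := mem_zpowers_iff.1 hv
  have h := congrArg Subtype.val (hm ⟨x, hx⟩)
  simp only [MulEquiv.toMonoidHom_eq_coe, MonoidHom.coe_coe, MulAut.conjNormal_apply, SubgroupClass.coe_zpow] at h
  rw [← conj_zpow, h, ← zpow_mul]
  exact zpow_mem (mem_zpowers x) _⟩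

section

variable {G : Type u} [Group G] [Finite G] {z : G} {K : Subgroup ↥(centralizer ({z} : Set G))} [K.Normal] {p : ℕ}

theorem Setting.zgroup_kernel (S : Setting z K p) : IsZGroup ↥K := ⟨fun r hr P => by
  haveI := Fact.mk hr
  by_cases h2 : r = 2
  · subst h2
    obtain ⟨i, hi⟩ := IsPGroup.iff_card.1 P.2
    have hd : 2 ^ i ∣ Nat.card K := hi ▸ card_subgroup_dvd_card _
    rcases Nat.eq_zero_or_pos i with rfl | hi0
    · rw [pow_zero] at hi
      rw [eq_bot_of_card_eq _ hi]
      infer_instance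
    · exact absurd (even_iff_two_dvd.2 ((dvd_pow_self 2 hi0.ne').trans hd)) (Nat.not_even_iff_odd.2 S.odd_K)
  · have hp : IsPGroup r (((P : Subgroup K).map K.subtype).map (centralizer ({z} : Set G)).subtype) := (P.2.map _).map _
    obtain ⟨R, hR⟩ := hp.exists_le_sylow
    haveI := S.cyc r hr h2 R
    haveI hc : IsCyclic ↥(((P : Subgroup K).map K.subtype).map (centralizer ({z} : Set G)).subtype) :=
      isCyclic_of_injective (inclusion hR) (inclusion_injective hR)
    exact (((P : Subgroup K).equivMapOfInjective K.subtype K.subtype_injective).trans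
      (((P : Subgroup K).map K.subtype).equivMapOfInjective _ (centralizer ({z} : Set G)).subtype_injective)).isCyclic.2 hc⟩

theorem Setting.kernel_prime (S : Setting z K p) {r : ℕ} (hr : r.Prime) (hd : r ∣ Nat.card K) :
    ¬ r ∣ (centralizer ({z} : Set G)).index := by
  haveI := Fact.mk hr
  have hr2 : r ≠ 2 := fun h => Nat.not_even_iff_odd.2 S.odd_K (even_iff_two_dvd.2 (h ▸ hd))
  obtain ⟨x, hxo, hzx, h4⟩ : ∃ x : G, orderOf x = r ∧ z * x = x * z ∧
      (r = 3 → ∃ t : G, orderOf t = 4 ∧ t * z = z * t ∧ t * x = x * t) := by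
    by_cases h3 : r = 3
    · subst h3
      obtain ⟨x, t, h1, h2, h3, h4, h5⟩ := S.four_of_three hd
      exact ⟨x, h1, h3.symm, fun _ => ⟨t, h2, h4, h5⟩⟩
    · obtain ⟨x, hxo, hzx⟩ := S.exists_prime_order (hd.trans (card_subgroup_dvd_card K))
      exact ⟨x, hxo, hzx, fun h => absurd h h3⟩
  rcases local_main S.sd hr2 (S.cyc r hr hr2) S.z_ord S.conj_all hxo hzx with h | ⟨h3, -, hno, -⟩
  · exact h
  · obtain ⟨t, ht, htz, htx⟩ := h4 h3
    exact (hno t ht htz htx).elim

theorem Setting.index_eq (S : Setting z K 5) {c : ℕ}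
    (hinv : HasInvCount (⟨z, mem_centralizer_singleton_iff.2 rfl⟩ : ↥(centralizer ({z} : Set G))) K c)
    (hidx : (centralizer ({z} : Set G)).index = 357 * c ^ 2) : (centralizer ({z} : Set G)).index = 357 := by
  haveI : Fact (Nat.Prime 2) := ⟨Nat.prime_two⟩
  -- a second involution commuting with `z`
  obtain ⟨R, hR⟩ := (show IsPGroup 2 (zpowers z) from IsPGroup.of_card (n := 1) (by
    rw [Nat.card_zpowers, S.z_ord, pow_one])).exists_le_sylow
  obtain ⟨⟨w, hwR⟩, hw, hwne, hwc⟩ := sd_exists_comm_invol (S.sd R) (v := ⟨z, hR (mem_zpowers z)⟩)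
    ((Subgroup.orderOf_mk _ _).trans S.z_ord)
  rw [Subgroup.orderOf_mk] at hw
  have hwz : w * z = z * w := congrArg Subtype.val hwc
  set wC : ↥(centralizer ({z} : Set G)) := ⟨w, mem_centralizer_singleton_iff.2 hwz⟩
  set zC : ↥(centralizer ({z} : Set G)) := ⟨z, mem_centralizer_singleton_iff.2 rfl⟩
  have hwo : orderOf wC = 2 := (Subgroup.orderOf_mk _ _).trans hw
  have hzz : z * z = 1 := by rw [← pow_two, ← S.z_ord, pow_orderOf_eq_one]
  have hww : w * w = 1 := by rw [← pow_two, ← hw, pow_orderOf_eq_one]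
  have hnot : wC⁻¹ * zC ∉ K := by
    intro hmem
    have hsq : (wC⁻¹ * zC) ^ 2 = 1 := Subtype.ext (by
      show (w⁻¹ * z) ^ 2 = 1
      rw [inv_eq_of_mul_eq_one_right hww, pow_two, show w * z * (w * z) = w * (z * w) * z by group, ← hwz,
        show w * (w * z) * z = (w * w) * (z * z) by group, hww, hzz, one_mul])
    have h1 := Subgroup.orderOf_dvd_natCard _ hmem
    have h2 : orderOf (wC⁻¹ * zC) = 1 := Nat.eq_one_of_dvd_coprimes (Nat.coprime_two_left.2 S.odd_K)
      (orderOf_dvd_of_pow_eq_one hsq) h1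
    rw [orderOf_eq_one_iff, inv_mul_eq_one] at h2
    exact hwne (Subtype.ext (congrArg Subtype.val h2 : w = z))
  have hc := hinv wC hwo hnot
  rw [card_inverted S.odd_K (Subtype.ext hww) (fun k hk => (inferInstance : K.Normal).conj_mem k hk wC)] at hc
  have hdvd : c ∣ Nat.card K := hc ▸ index_dvd_card _
  have hc1 : c = 1 := by
    by_contra hne
    obtain ⟨r, hr, hrc⟩ := Nat.exists_prime_and_dvd hne
    exact S.kernel_prime hr (hrc.trans hdvd) (by rw [hidx]; exact (hrc.trans (dvd_pow_self c two_ne_zero)).mul_left _)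
  rw [hidx, hc1, one_pow, mul_one]

theorem Setting.five_not_dvd (S : Setting z K 5) : ¬ 5 ∣ Nat.card K := by
  intro h5
  haveI := S.zgroup_kernel
  obtain ⟨N, hN, hidx, ⟨e⟩, -⟩ := S.top.sub
  have hNc : Nat.card N = 120 := by rw [Nat.card_congr e.toEquiv, card_L5]
  have hHc : Nat.card (↥(centralizer ({z} : Set G)) ⧸ K) = 240 := by
    rw [← N.card_mul_index, hidx, hNc]
  obtain ⟨P : Sylow 5 ↥(centralizer ({z} : Set G))⟩ : Nonempty (Sylow 5 ↥(centralizer ({z} : Set G))) := inferInstance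
  haveI : IsCyclic ↥(P : Subgroup ↥(centralizer ({z} : Set G))) := by
    obtain ⟨R, hR⟩ := (P.2.map (centralizer ({z} : Set G)).subtype).exists_le_sylow
    haveI := S.cyc 5 Nat.prime_five (by norm_num) R
    exact ((P : Subgroup ↥(centralizer ({z} : Set G))).equivMapOfInjective _
      (centralizer ({z} : Set G)).subtype_injective).isCyclic.2 (isCyclic_of_injective (inclusion hR) (inclusion_injective hR))
  set A : Subgroup ↥(centralizer ({z} : Set G)) := ⁅K, K⁆ with hA
  haveI : A.Normal := commutator_normal K K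
  haveI : IsCyclic A := by
    haveI := IsZGroup.isCyclic_commutator (G := ↥K)
    have e' : (commutator ↥K).map K.subtype = A := map_subtype_commutator K
    exact ((commutator ↥K).equivMapOfInjective K.subtype K.subtype_injective).trans
      (MulEquiv.subgroupCongr e') |>.isCyclic.1 inferInstance
  have hAK : A ≤ K := commutator_le_left K K
  by_cases hA5 : 5 ∣ Nat.card A
  · obtain ⟨x, hx⟩ := exists_prime_orderOf_dvd_card' (G := A) 5 hA5
    haveI := zpowers_normal_of_cyclic A x.2
    refine no_five_kernel (QuotientGroup.mk' K) (QuotientGroup.mk'_surjective K) N hNc (by rw [hHc]; norm_num) e P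
      (zpowers (x : ↥(centralizer ({z} : Set G)))) (by rw [Nat.card_zpowers, Subgroup.orderOf_coe, hx]) ?_
    rw [QuotientGroup.ker_mk', zpowers_le]
    exact hAK x.2
  · set q := QuotientGroup.mk' A
    haveI : (K.map q).Normal := (inferInstance : K.Normal).map _ (QuotientGroup.mk'_surjective A)
    haveI : IsCyclic ↥(K.map q) := by
      haveI : IsCyclic (Abelianization ↥K) := IsZGroup.isCyclic_abelianization
      let f : Abelianization ↥K →* ↥(K.map q) :=
        @Abelianization.lift ↥K _ ↥(K.map q)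
          { (inferInstance : Group ↥(K.map q)) with
            mul_comm := by
              rintro ⟨_, v, hv, rfl⟩ ⟨_, w, hw, rfl⟩
              refine Subtype.ext ?_
              show q v * q w = q w * q v
              rw [← commutatorElement_eq_one_iff_mul_comm, ← map_commutatorElement, ← MonoidHom.mem_ker,
                QuotientGroup.ker_mk']
              exact commutator_mem_commutator hv hw }
          (q.subgroupMap K)
      exact isCyclic_of_surjective f fun v => by
        obtain ⟨w, hw⟩ := q.subgroupMap_surjective K v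
        exact ⟨Abelianization.of w, hw⟩
    obtain ⟨k, hk⟩ := exists_prime_orderOf_dvd_card' (G := ↥K) 5 h5
    have hqk : orderOf (q (k : ↥(centralizer ({z} : Set G)))) = 5 := by
      rcases (Nat.dvd_prime Nat.prime_five).1 (((orderOf_map_dvd q _).trans (Subgroup.orderOf_coe k).dvd).trans hk.dvd)
        with h | h
      · exfalso
        rw [orderOf_eq_one_iff, QuotientGroup.mk'_apply, QuotientGroup.eq_one_iff] at h
        have := Subgroup.orderOf_dvd_natCard _ h
        rw [Subgroup.orderOf_coe, hk] at this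
        exact hA5 this
      · exact h
    haveI := zpowers_normal_of_cyclic (K.map q) (mem_map_of_mem q k.2)
    set π' : ↥(centralizer ({z} : Set G)) ⧸ A →* ↥(centralizer ({z} : Set G)) ⧸ K :=
      QuotientGroup.lift A (QuotientGroup.mk' K) (by rw [QuotientGroup.ker_mk']; exact hAK)
    have hπ' : Function.Surjective π' := fun v => by
      obtain ⟨w, rfl⟩ := QuotientGroup.mk'_surjective K v
      exact ⟨q w, rfl⟩
    haveI : IsCyclic ↥((P.mapSurjective (QuotientGroup.mk'_surjective A) : Sylow 5 _) :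
        Subgroup (↥(centralizer ({z} : Set G)) ⧸ A)) :=
      isCyclic_of_surjective (q.subgroupMap (P : Subgroup ↥(centralizer ({z} : Set G)))) (q.subgroupMap_surjective _)
    refine no_five_kernel π' hπ' N hNc (by rw [hHc]; norm_num) e (P.mapSurjective (QuotientGroup.mk'_surjective A))
      (zpowers (q (k : ↥(centralizer ({z} : Set G))))) (by rw [Nat.card_zpowers, hqk]) ?_
    rw [zpowers_le, MonoidHom.mem_ker]
    exact (QuotientGroup.eq_one_iff _).2 k.2

theorem five_exception {z : G} {K : Subgroup ↥(centralizer ({z} : Set G))} [K.Normal] (S : Setting z K 5)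
    (hidx : (centralizer ({z} : Set G)).index = 357) : False := by
  haveI : Fact (Nat.Prime 2) := ⟨Nat.prime_two⟩
  haveI : Fact (Nat.Prime 7) := ⟨by norm_num⟩
  haveI : Fact (Nat.Prime 17) := ⟨by norm_num⟩
  haveI hKn : K.Normal := inferInstance
  obtain ⟨NH, hNH, hidxN, ⟨e⟩, -⟩ := S.top.sub
  haveI := hNH
  have hNHc : Nat.card NH = 120 := by rw [Nat.card_congr e.toEquiv, card_L5]
  have hH : Nat.card (↥(centralizer ({z} : Set G)) ⧸ K) = 240 := by rw [← NH.card_mul_index, hidxN, hNHc]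
  have hC : Nat.card ↥(centralizer ({z} : Set G)) = Nat.card K * 240 := by
    rw [S.card_centralizer]; norm_num
  have hG : Nat.card G = Nat.card K * 85680 := by
    rw [← (centralizer ({z} : Set G)).card_mul_index, hidx, hC]; ring
  have hzz : z * z = 1 := by rw [← pow_two, ← S.z_ord, pow_orderOf_eq_one]
  have hK5 := S.five_not_dvd
  have hK7 : ¬ 7 ∣ Nat.card K := fun h => S.kernel_prime (by norm_num) h (by rw [hidx]; norm_num)
  have hK17 : ¬ 17 ∣ Nat.card K := fun h => S.kernel_prime (by norm_num) h (by rw [hidx]; norm_num)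
  have hnoinv : ∀ {r : ℕ}, r.Prime → ¬ r ∣ 240 → ¬ r ∣ Nat.card K →
      ∀ y s : G, orderOf y = r → orderOf s = 2 → s * y ≠ y * s := by
    intro r hr h240 hrK y s hy hs hc
    obtain ⟨g, hg⟩ := isConj_iff.1 (S.conj_all s hs)
    have hmem : g⁻¹ * y * g ∈ centralizer ({z} : Set G) := mem_centralizer_singleton_iff.2 (by
      calc g⁻¹ * y * g * z = g⁻¹ * (y * (g * z * g⁻¹)) * g := by group
        _ = g⁻¹ * ((g * z * g⁻¹) * y) * g := by rw [hg, hc]
        _ = z * (g⁻¹ * y * g) := by group)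
    have h := Subgroup.orderOf_dvd_natCard _ hmem
    rw [show g⁻¹ * y * g = MulAut.conj g⁻¹ y by simp, MulEquiv.orderOf_eq, hy, hC] at h
    rcases (hr.dvd_mul).1 h with h | h
    · exact hrK h
    · exact h240 h
  set q := QuotientGroup.mk' K with hq
  have hlift : ∀ v : ↥(centralizer ({z} : Set G)), (orderOf v).Coprime (Nat.card K) → orderOf (q v) = orderOf v := by
    intro v hv
    refine Nat.dvd_antisymm (orderOf_map_dvd q v) ?_
    have hmem : v ^ orderOf (q v) ∈ K := by
      rw [← QuotientGroup.eq_one_iff, ← QuotientGroup.mk'_apply, map_pow, pow_orderOf_eq_one]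
    have h1 : (v ^ orderOf (q v)) ^ Nat.card K = 1 := by
      obtain ⟨m, hm⟩ := Subgroup.orderOf_dvd_natCard _ hmem
      rw [hm, pow_mul, pow_orderOf_eq_one, one_pow]
    rw [← pow_mul] at h1
    exact hv.dvd_of_dvd_mul_right (orderOf_dvd_of_pow_eq_one h1)
  have hKodd := Nat.coprime_two_left.2 S.odd_K
  -- an element of order five
  obtain ⟨y, hy⟩ := exists_prime_orderOf_dvd_card' (G := ↥(centralizer ({z} : Set G))) 5
    (by rw [hC]; exact dvd_mul_of_dvd_right (by norm_num) _)
  have hyq : orderOf (q y) = 5 := by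
    rw [hlift y (by rw [hy]; exact Nat.prime_five.coprime_iff_not_dvd.2 hK5), hy]
  have hyN : q y ∈ NH := by
    have h1 : orderOf (q y : _ ⧸ NH) ∣ 5 := hyq ▸ orderOf_map_dvd (QuotientGroup.mk' NH) (q y)
    have h1' : orderOf (q y : _ ⧸ NH) ∣ 2 := (_root_.orderOf_dvd_natCard _).trans (by rw [← index_eq_card, hidxN])
    exact (QuotientGroup.eq_one_iff _).1 (orderOf_eq_one_iff.1
      (Nat.eq_one_of_dvd_coprimes (show Nat.Coprime 5 2 by norm_num) h1 h1'))
  haveI := S.zgroup_kernel
  haveI : IsZGroup ↥q.ker := by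
    rw [hq, QuotientGroup.ker_mk']; exact S.zgroup_kernel
  have hky : ∀ k ∈ K, y * k = k * y := fun k hk => five_centralizes q (QuotientGroup.mk'_surjective K) NH e
    (by rw [hq, QuotientGroup.ker_mk']; exact hK5) hy hyN k (by rw [hq, QuotientGroup.ker_mk']; exact hk)
  set yG : G := (y : G) with hyG
  have hyGo : orderOf yG = 5 := (Subgroup.orderOf_coe y).trans hy
  have hyz : yG * z = z * yG := mem_centralizer_singleton_iff.1 y.2
  have hy1 : yG ≠ 1 := fun h => by rw [h, orderOf_one] at hyGo; omega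
  set Ny := normalizer ((zpowers yG : Subgroup G) : Set G) with hNy
  set M := centralizer ({yG} : Set G) with hM
  have hMm : ∀ {v : G}, v ∈ M ↔ v * yG = yG * v := fun {v} => mem_centralizer_singleton_iff
  -- the normalizer inside the centralizer of `z`
  set Dn := normalizer ((zpowers (q y) : Subgroup _) : Set (↥(centralizer ({z} : Set G)) ⧸ K)) with hDn
  set D : Subgroup G := (Dn.comap q).map (centralizer ({z} : Set G)).subtype with hD
  have hDc : Nat.card D = Nat.card K * 40 := by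
    have h1 : (Dn.comap q).index = Dn.index := index_comap_of_surjective _ (QuotientGroup.mk'_surjective K)
    have h2 := (Dn.comap q).card_mul_index
    have h3 := Dn.card_mul_index
    rw [hDn, card_normalizer_top NH hidxN e hyq, ← hDn, hH] at h3
    rw [h1, show Dn.index = 6 by omega, hC] at h2
    rw [hD, card_map_of_injective (centralizer ({z} : Set G)).subtype_injective]
    omega
  have hDle : D ≤ Ny ⊓ centralizer ({z} : Set G) := by
    rintro _ ⟨v, hv, rfl⟩
    refine ⟨mem_normalizer_fintype ?_, v.2⟩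
    intro w hw
    obtain ⟨i, rfl⟩ := mem_zpowers_iff.1 (hw : w ∈ zpowers yG)
    rw [← conj_zpow]
    refine zpow_mem ?_ i
    obtain ⟨j, hj⟩ := mem_zpowers_iff.1 ((mem_normalizer_iff.1 (hv : q v ∈ Dn) (q y)).1 (mem_zpowers _))
    set k := (y ^ j)⁻¹ * (v * y * v⁻¹) with hk
    have hkK : k ∈ K := by
      rw [← QuotientGroup.eq_one_iff, ← QuotientGroup.mk'_apply, hk, map_mul, map_inv, map_zpow, map_mul, map_mul,
        map_inv, ← hq, hj, inv_mul_cancel]
    have hcomm : Commute (y ^ j) k := (show Commute y k from hky k hkK).zpow_left j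
    have h5 : ∀ u : ↥(centralizer ({z} : Set G)), orderOf u = 5 → u ^ 5 = 1 := fun u hu => by
      have h := pow_orderOf_eq_one u
      rwa [hu] at h
    have hk5 : k ^ 5 = 1 := by
      have h : (y ^ j * k) ^ 5 = 1 := by
        rw [hk, mul_inv_cancel_left, conj_pow, h5 y hy]; group
      rw [hcomm.mul_pow, ← zpow_natCast (y ^ j), ← zpow_mul, mul_comm, zpow_mul, zpow_natCast, h5 y hy, one_zpow,
        one_mul] at h
      exact h
    have hk1 : k = 1 := orderOf_eq_one_iff.1 (Nat.eq_one_of_dvd_coprimes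
      (Nat.prime_five.coprime_iff_not_dvd.2 hK5) (orderOf_dvd_of_pow_eq_one hk5) (Subgroup.orderOf_dvd_natCard _ hkK))
    rw [hk, inv_mul_eq_one] at hk1
    exact ⟨j, (congrArg Subtype.val hk1 : _)⟩
  have hDge : Ny ⊓ centralizer ({z} : Set G) ≤ D := by
    rintro v ⟨hv, hvz⟩
    refine ⟨⟨v, hvz⟩, ?_, rfl⟩
    show q ⟨v, hvz⟩ ∈ Dn
    refine mem_normalizer_fintype ?_
    intro w hw
    obtain ⟨i, rfl⟩ := mem_zpowers_iff.1 (hw : w ∈ zpowers (q y))
    obtain ⟨j, hj⟩ := mem_zpowers_iff.1 ((mem_normalizer_iff.1 hv yG).1 (mem_zpowers _))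
    have e' : (⟨v, hvz⟩ : ↥(centralizer ({z} : Set G))) * y * (⟨v, hvz⟩ : ↥(centralizer ({z} : Set G)))⁻¹ = y ^ j :=
      Subtype.ext (by simpa using hj.symm)
    rw [← conj_zpow, ← map_inv, ← map_mul, ← map_mul, e', map_zpow, ← zpow_mul]
    exact zpow_mem (mem_zpowers _) _
  have hDeq : D = Ny ⊓ centralizer ({z} : Set G) := le_antisymm hDle hDge
  -- involutions and elements of order four centralizing `y` and `z`
  have hV : ∀ u : G, orderOf u = 2 → u * z = z * u → u * yG = yG * u → u = z := by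
    intro u hu huz huy
    by_contra hne
    set uC : ↥(centralizer ({z} : Set G)) := ⟨u, mem_centralizer_singleton_iff.2 huz⟩
    set zC : ↥(centralizer ({z} : Set G)) := ⟨z, mem_centralizer_singleton_iff.2 rfl⟩
    have hzy : q zC * q y = q y * q zC := by rw [← map_mul, ← map_mul]; exact congrArg q (Subtype.ext hyz.symm)
    have huy' : q uC * q y = q y * q uC := by rw [← map_mul, ← map_mul]; exact congrArg q (Subtype.ext huy)
    refine no_four_five S.top (y := q y) (a := q uC) (b := q zC) hyq ?_ ?_ (fun h => ?_) huy' hzy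
    · rw [hlift uC (by rw [Subgroup.orderOf_mk, hu]; exact hKodd), Subgroup.orderOf_mk, hu]
    · rw [hlift zC (by rw [Subgroup.orderOf_mk, S.z_ord]; exact hKodd), Subgroup.orderOf_mk, S.z_ord]
    · have h1 : q (uC * zC⁻¹) = 1 := by rw [map_mul, map_inv, h, mul_inv_cancel]
      have h2 : (uC * zC⁻¹) ^ 2 = 1 := Subtype.ext (by
        show (u * z⁻¹) ^ 2 = 1
        rw [inv_eq_of_mul_eq_one_right hzz, pow_two, show u * z * (u * z) = u * (z * u) * z by group, ← huz,
          show u * (u * z) * z = (u * u) * (z * z) by group, hzz, ← pow_two, ← hu, pow_orderOf_eq_one, one_mul])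
      have h3 := hlift (uC * zC⁻¹) ((hKodd).coprime_dvd_left (orderOf_dvd_of_pow_eq_one h2))
      rw [h1, orderOf_one, eq_comm, orderOf_eq_one_iff, mul_inv_eq_one] at h3
      exact hne (congrArg Subtype.val h3)
  have hQ : ∀ t : G, orderOf t = 4 → ∀ ht : t * z = z * t,
      q ⟨t, mem_centralizer_singleton_iff.2 ht⟩ ∈ NH → t * yG ≠ yG * t := by
    intro t ht htz htN hty
    refine no_order_four NH hidxN e hyq ?_ htN ?_
    · rw [hlift _ (by rw [Subgroup.orderOf_mk, ht, show (4 : ℕ) = 2 ^ 2 by norm_num]; exact hKodd.pow_left 2),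
        Subgroup.orderOf_mk, ht]
    · rw [← map_mul, ← map_mul]; exact congrArg q (Subtype.ext hty)
  -- a Sylow 2-subgroup of `M` containing `z`
  have hzM : z ∈ M := hMm.2 hyz.symm
  obtain ⟨T, hT⟩ := (show IsPGroup 2 (zpowers (⟨z, hzM⟩ : M)) from IsPGroup.of_card (n := 1) (by
    rw [Nat.card_zpowers, Subgroup.orderOf_mk, S.z_ord, pow_one])).exists_le_sylow
  haveI : Nontrivial (T : Subgroup M) := ⟨⟨⟨⟨z, hzM⟩, hT (mem_zpowers _)⟩, 1, fun h => by
    have : z = 1 := congrArg (fun v : (T : Subgroup M) => ((v : M) : G)) h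
    have := S.z_ord
    rw [‹z = 1›, orderOf_one] at this
    omega⟩⟩
  haveI := T.2.center_nontrivial
  obtain ⟨w, hw⟩ : ∃ w : center ↥(T : Subgroup M), orderOf w = 2 := by
    refine exists_prime_orderOf_dvd_card' 2 ?_
    obtain ⟨i, hi0, hi⟩ := (T.2.to_subgroup (center ↥(T : Subgroup M))).nontrivial_iff_card.1 inferInstance
    rw [hi]; exact dvd_pow_self 2 hi0.ne'
  have hzc : ∀ v ∈ (T : Subgroup M), (v : G) * z = z * (v : G) := by
    set wG : G := (((w : ↥(T : Subgroup M)) : M) : G)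
    have hwo : orderOf wG = 2 := by
      simp only [wG, Subgroup.orderOf_coe]; exact hw
    have hwz : wG = z := hV wG hwo
      (congrArg (fun v : (T : Subgroup M) => ((v : M) : G))
        ((mem_center_iff.1 w.2 ⟨⟨z, hzM⟩, hT (mem_zpowers _)⟩).symm))
      (hMm.1 ((w : ↥(T : Subgroup M)) : M).2)
    intro v hv
    have h := congrArg (fun v : (T : Subgroup M) => ((v : M) : G)) (mem_center_iff.1 w.2 ⟨v, hv⟩)
    simp only [Subgroup.coe_mul] at h
    rw [show (((w : ↥(T : Subgroup M)) : M) : G) = z from hwz] at h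
    exact h
  set ψ : ↥(T : Subgroup M) →* ↥(centralizer ({z} : Set G)) :=
    { toFun := fun v => ⟨((v : M) : G), mem_centralizer_singleton_iff.2 (hzc v v.2)⟩
      map_one' := rfl
      map_mul' := fun _ _ => rfl } with hψ
  have hTinv : ∀ v : ↥(T : Subgroup M), orderOf v = 2 → ((v : M) : G) = z := fun v hv =>
    hV _ (by rw [Subgroup.orderOf_coe, Subgroup.orderOf_coe, hv]) (hzc v v.2) (hMm.1 (v : M).2)
  haveI hTcyc : IsCyclic ↥(T : Subgroup M) := by
    set U := (NH.comap q).comap ψ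
    have hU : U.index ∣ 2 := by
      rw [index_comap]
      haveI : (NH.comap q).Normal := inferInstance
      refine (relIndex_dvd_index_of_normal _ _).trans ?_
      rw [index_comap_of_surjective _ (QuotientGroup.mk'_surjective K), hidxN]
    have hUexp : ∀ v ∈ U, v * v = 1 := by
      intro v hv
      by_contra hne
      obtain ⟨j, -, hj⟩ := (Nat.dvd_prime_pow Nat.prime_two).1
        (orderOf_dvd_of_pow_eq_one (T.2 v).choose_spec)
      have hj2 : 2 ≤ j := by
        by_contra hc
        exact hne (by rw [← pow_two]; exact orderOf_dvd_iff_pow_eq_one.1 (hj ▸ pow_dvd_pow 2 (show j ≤ 1 by omega)))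
      set t := v ^ 2 ^ (j - 2)
      have ht : orderOf t = 4 := by
        rw [orderOf_pow, hj, Nat.gcd_eq_right (pow_dvd_pow 2 (by omega)), Nat.pow_div (by omega) two_pos,
          show j - (j - 2) = 2 by omega]
        norm_num
      exact hQ ((t : M) : G) (by rw [Subgroup.orderOf_coe, Subgroup.orderOf_coe, ht]) (hzc t t.2)
        (pow_mem hv _ : t ∈ U) (hMm.1 (t : M).2)
    have hU2 : Nat.card U ≤ Nat.card (Fin 2) := by
      classical
      refine Nat.card_le_card_of_injective (fun v : U => if (v : ↥(T : Subgroup M)) = 1 then (0 : Fin 2) else 1)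
        fun a b h => ?_
      have key : ∀ c : U, (c : ↥(T : Subgroup M)) ≠ 1 → (((c : ↥(T : Subgroup M)) : M) : G) = z := fun c hc =>
        hTinv _ (orderOf_eq_prime (by rw [pow_two, hUexp _ c.2]) hc)
      apply Subtype.ext
      by_cases ha : (a : ↥(T : Subgroup M)) = 1 <;> by_cases hb : (b : ↥(T : Subgroup M)) = 1
      · rw [ha, hb]
      · simp only [ha, hb, ↓reduceIte] at h; exact absurd h (by decide)
      · simp only [ha, hb, ↓reduceIte] at h; exact absurd h (by decide)
      · exact Subtype.ext (Subtype.ext ((key a ha).trans (key b hb).symm))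
    rw [Nat.card_fin] at hU2
    have h4 : Nat.card ↥(T : Subgroup M) ≤ 4 := by
      rw [← U.card_mul_index]
      exact Nat.mul_le_mul hU2 (Nat.le_of_dvd two_pos hU)
    by_contra hnc
    have hsq : ∀ v : ↥(T : Subgroup M), v = 1 ∨ ((v : M) : G) = z := by
      intro v
      by_contra hcon
      push Not at hcon
      obtain ⟨hv1, hvz⟩ := hcon
      have hv2 : orderOf v ≠ 2 := fun h => hvz (hTinv v h)
      obtain ⟨j, -, hj⟩ := (Nat.dvd_prime_pow Nat.prime_two).1 (orderOf_dvd_of_pow_eq_one (T.2 v).choose_spec)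
      have hj2 : 2 ≤ j := by
        rcases j with _ | _ | j
        · exact absurd (orderOf_eq_one_iff.1 (by simpa using hj)) hv1
        · exact absurd (by simpa using hj) hv2
        · omega
      have h8 : 4 ≤ orderOf v := by
        rw [hj, show (4 : ℕ) = 2 ^ 2 by norm_num]; exact Nat.pow_le_pow_right two_pos hj2
      refine hnc (isCyclic_of_orderOf_eq_card v (le_antisymm ?_ (h4.trans h8)))
      exact Nat.le_of_dvd Nat.card_pos (_root_.orderOf_dvd_natCard v)
    have hle : Nat.card ↥(T : Subgroup M) ≤ Nat.card (Fin 2) := by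
      classical
      refine Nat.card_le_card_of_injective (fun v : ↥(T : Subgroup M) => if v = 1 then (0 : Fin 2) else 1) fun a b h => ?_
      by_cases ha : a = 1 <;> by_cases hb : b = 1
      · rw [ha, hb]
      · simp only [ha, hb, ↓reduceIte] at h; exact absurd h (by decide)
      · simp only [ha, hb, ↓reduceIte] at h; exact absurd h (by decide)
      · exact Subtype.ext (Subtype.ext (((hsq a).resolve_left ha).trans ((hsq b).resolve_left hb).symm))
    rw [Nat.card_fin] at hle
    obtain ⟨i, hi⟩ := IsPGroup.iff_card.1 T.2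
    have : Nat.card ↥(T : Subgroup M) = 2 := by
      have := Finite.one_lt_card (α := ↥(T : Subgroup M))
      omega
    exact hnc (isCyclic_of_prime_card this)
  -- the normal 2-complement
  have hmin : (Nat.card M).minFac = 2 := (Nat.minFac_eq_two_iff _).2 (by
    have h := Subgroup.orderOf_dvd_natCard M hzM
    rwa [S.z_ord] at h)
  have hcomp := MonoidHom.ker_transferSylow_isComplement' T (IsCyclic.normalizer_le_centralizer hmin hTcyc)
  set W₀ := (MonoidHom.transferSylow T (IsCyclic.normalizer_le_centralizer hmin hTcyc)).ker with hW₀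
  have hW₀odd : Odd (Nat.card W₀) := by
    rw [← Nat.not_even_iff_odd, even_iff_two_dvd]
    exact MonoidHom.not_dvd_card_ker_transferSylow T _
  set W : Subgroup G := W₀.map M.subtype with hW
  have hWM : W ≤ M := map_subtype_le _
  have hWodd : Odd (Nat.card W) := by rwa [hW, card_map_of_injective M.subtype_injective]
  have hWmem : ∀ v ∈ M, Odd (orderOf v) → v ∈ W := by
    intro v hv hvo
    refine ⟨⟨v, hv⟩, ?_, rfl⟩
    show (⟨v, hv⟩ : M) ∈ W₀
    rw [← QuotientGroup.eq_one_iff, ← orderOf_eq_one_iff]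
    obtain ⟨i, hi⟩ := IsPGroup.iff_card.1 T.2
    refine Nat.eq_one_of_dvd_coprimes ((Nat.coprime_two_left.2 hvo).pow_left i) ?_ ?_
    · have := _root_.orderOf_dvd_natCard ((⟨v, hv⟩ : M) : M ⧸ W₀)
      have hidx0 : W₀.index = Nat.card ↥(T : Subgroup M) := hcomp.symm.card_left.symm
      rwa [← index_eq_card, hidx0, hi] at this
    · rw [← Subgroup.orderOf_mk v hv]
      exact orderOf_map_dvd (QuotientGroup.mk' W₀) _
  have hWord : ∀ v ∈ W, Odd (orderOf v) := fun v hv => hWodd.of_dvd_nat (Subgroup.orderOf_dvd_natCard _ hv)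
  have hMNy : M ≤ Ny := fun v hv => mem_normalizer_fintype fun u hu => by
    obtain ⟨i, rfl⟩ := mem_zpowers_iff.1 (hu : u ∈ zpowers yG)
    rw [← conj_zpow, show v * yG * v⁻¹ = yG from mul_inv_eq_iff_eq_mul.2 (hMm.1 hv)]
    exact zpow_mem (mem_zpowers _) _
  have hNyM : ∀ n ∈ Ny, ∀ v ∈ M, n * v * n⁻¹ ∈ M := by
    intro n hn v hv
    refine hMm.2 ?_
    obtain ⟨i, hi⟩ := mem_zpowers_iff.1 ((mem_normalizer_iff.1 (inv_mem hn) yG).1 (mem_zpowers _))
    rw [inv_inv] at hi
    have hvy : Commute v (yG ^ i) := (show Commute v yG from hMm.1 hv).zpow_right i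
    calc n * v * n⁻¹ * yG = n * (v * (n⁻¹ * yG * n)) * n⁻¹ := by group
      _ = n * ((n⁻¹ * yG * n) * v) * n⁻¹ := by rw [← hi, hvy.eq]
      _ = yG * (n * v * n⁻¹) := by group
  have hWn : ∀ n ∈ Ny, ∀ v ∈ W, n * v * n⁻¹ ∈ W := fun n hn v hv => hWmem _ (hNyM n hn v (hWM hv))
    (by rw [← MulAut.conj_apply, MulEquiv.orderOf_eq]; exact hWord v hv)
  -- every element of the normalizer is a product
  have hprod : ∀ n ∈ Ny, ∃ v ∈ W, ∃ d ∈ D, n = v * d := by
    intro n hn
    have hnz : n * z * n⁻¹ ∈ M := hNyM n hn z hzM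
    obtain ⟨T', hT'⟩ := (show IsPGroup 2 (zpowers (⟨_, hnz⟩ : M)) from IsPGroup.of_card (n := 1) (by
      rw [Nat.card_zpowers, Subgroup.orderOf_mk, ← MulAut.conj_apply, MulEquiv.orderOf_eq, S.z_ord,
        pow_one])).exists_le_sylow
    obtain ⟨m, hm⟩ := MulAction.exists_smul_eq M T' T
    have hmem : m * (⟨_, hnz⟩ : M) * m⁻¹ ∈ (T : Subgroup M) := by
      rw [← hm]; exact ⟨_, hT' (mem_zpowers _), rfl⟩
    have h := hTinv ⟨_, hmem⟩ (by
      rw [Subgroup.orderOf_mk, ← MulAut.conj_apply, MulEquiv.orderOf_eq, Subgroup.orderOf_mk, ← MulAut.conj_apply,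
        MulEquiv.orderOf_eq, S.z_ord])
    simp only [Subgroup.coe_mul, Subgroup.coe_inv] at h
    have hmn : ((m : G) * n) * z = z * ((m : G) * n) := by
      rw [← mul_inv_eq_iff_eq_mul]
      calc (m : G) * n * z * ((m : G) * n)⁻¹ = (m : G) * (n * z * n⁻¹) * (m : G)⁻¹ := by group
        _ = z := h
    -- split `m⁻¹`
    have htop : (m⁻¹ : M) ∈ W₀ ⊔ (T : Subgroup M) := by rw [hcomp.isCompl.codisjoint.eq_top]; exact mem_top _
    obtain ⟨u, hu, t, ht, hut⟩ := Subgroup.mem_sup_of_normal_left.1 htop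
    refine ⟨(u : G), ⟨u, hu, rfl⟩, (t : G) * ((m : G) * n), ?_, ?_⟩
    · rw [hDeq]
      refine ⟨mul_mem (hMNy (t : M).2) (mul_mem (hMNy m.2) hn), mem_centralizer_singleton_iff.2 ?_⟩
      exact ((show Commute (t : G) z from hzc t ht).mul_left (show Commute ((m : G) * n) z from hmn)).eq
    · have : (u : G) * (t : G) = (m : G)⁻¹ := congrArg Subtype.val hut
      rw [← mul_assoc, this, inv_mul_cancel_left]
  have hDNy : D ≤ Ny := hDeq.le.trans inf_le_left
  have hWNy : W ≤ Ny := hWM.trans hMNy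
  set w' := ((centralizer ({z} : Set G)).subgroupOf W).index with hw'
  have hrel : (D.subgroupOf Ny).index = w' := by
    have hiff : ∀ a b : W, (a : G)⁻¹ * b ∈ centralizer ({z} : Set G) ↔ (a : G)⁻¹ * b ∈ D := fun a b => by
      rw [hDeq]
      exact ⟨fun h => ⟨Subgroup.mul_mem _ (Subgroup.inv_mem _ (hWNy a.2)) (hWNy b.2), h⟩, fun h => h.2⟩
    rw [hw', index_eq_card, index_eq_card]
    refine (Nat.card_congr (Equiv.ofBijective (Quotient.lift
      (fun v : W => (QuotientGroup.mk ⟨(v : G), hWNy v.2⟩ : ↥Ny ⧸ D.subgroupOf Ny))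
      (fun a b h => QuotientGroup.eq.2 (mem_subgroupOf.2 ((hiff a b).1 (mem_subgroupOf.1 (QuotientGroup.leftRel_apply.1 h))))))
      ⟨?_, ?_⟩)).symm
    · rintro ⟨a⟩ ⟨b⟩ h
      exact Quotient.sound (QuotientGroup.leftRel_apply.2 (mem_subgroupOf.2 ((hiff a b).2 (mem_subgroupOf.1 (QuotientGroup.eq.1 h)))))
    · intro x
      obtain ⟨n, rfl⟩ := QuotientGroup.mk_surjective x
      obtain ⟨v, hv, d, hd, hnd⟩ := hprod n n.2
      refine ⟨QuotientGroup.mk ⟨v, hv⟩, QuotientGroup.eq.2 (mem_subgroupOf.2 ?_)⟩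
      show v⁻¹ * (n : G) ∈ D
      rw [hnd, inv_mul_cancel_left]; exact hd
  have hNyc : Nat.card Ny = Nat.card K * 40 * w' := by
    rw [← (D.subgroupOf Ny).card_mul_index, hrel, Nat.card_congr (subgroupOfEquivOfLe hDNy).toEquiv, hDc]
  have hw'odd : Odd w' := hWodd.of_dvd_nat (index_dvd_card _)
  -- Sylow's congruence at 5
  have hK0 : 0 < Nat.card K := Nat.card_pos
  have h5G : IsPGroup 5 (zpowers yG) := IsPGroup.of_card (n := 1) (by rw [Nat.card_zpowers, hyGo, pow_one])
  have h5idx : ¬ 5 ∣ (zpowers yG).index := by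
    intro h5
    have h := (zpowers yG).card_mul_index
    rw [Nat.card_zpowers, hyGo, hG, show 85680 = 5 * 17136 by norm_num, ← mul_assoc, mul_comm (Nat.card K) 5, mul_assoc] at h
    rw [Nat.eq_of_mul_eq_mul_left (by norm_num) h] at h5
    rcases (Nat.Prime.dvd_mul Nat.prime_five).1 h5 with h5 | h5
    · exact hK5 h5
    · norm_num at h5
  have h5mod : Nat.card (Sylow 5 G) ≡ 1 [MOD 5] := card_sylow_modEq_one 5 G
  have h2142 : w' * Nat.card (Sylow 5 G) = 2142 := by
    have h := Ny.card_mul_index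
    rw [(h5G.toSylow h5idx).card_eq_index_normalizer]
    rw [hNyc, hG, show 85680 = 40 * 2142 by norm_num] at h
    refine Nat.eq_of_mul_eq_mul_left (show 0 < Nat.card K * 40 by positivity) ?_
    rw [← mul_assoc, mul_assoc (Nat.card K) 40 2142]
    exact h
  have h4Ny : 4 ∣ Nat.card Ny := by
    rw [hNyc]; exact dvd_mul_of_dvd_left (dvd_mul_of_dvd_right (by norm_num) _) _
  have h7W : ¬ 7 ∣ Nat.card W := not_dvd_of_normal_odd (by norm_num) (by norm_num)
    (S.cyc 7 (by norm_num) (by norm_num)) (hnoinv (by norm_num) (by norm_num) hK7) Ny W hWNy hWn hWodd h4Ny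
  have hw17 : w' = 17 := by
    have hmod : Nat.card (Sylow 5 G) % 5 = 1 := h5mod
    have hmem : w' ∈ Nat.divisors 2142 := Nat.mem_divisors.2 ⟨Dvd.intro _ h2142, by norm_num⟩
    have h7 : ¬ 7 ∣ w' := fun h => h7W (h.trans (index_dvd_card _))
    have hn : Nat.card (Sylow 5 G) = 2142 / w' := by
      rw [← h2142, Nat.mul_div_cancel_left _ hw'odd.pos]
    rw [hn] at hmod
    have key : ∀ d ∈ Nat.divisors 2142, d % 2 = 1 → ¬ 7 ∣ d → 2142 / d % 5 = 1 → d = 17 := by decide +kernel
    exact key _ hmem (Nat.odd_iff.1 hw'odd) h7 hmod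
  -- the subgroup of order 17
  have h17W : 17 ∣ Nat.card W := hw17 ▸ index_dvd_card _
  have hWn₀ : (W.subgroupOf M).Normal :=
    ⟨fun v hv m => mem_subgroupOf.2 (hWn m (hMNy m.2) v (mem_subgroupOf.1 hv))⟩
  obtain ⟨R₀ : Sylow 17 ↥(W.subgroupOf M)⟩ : Nonempty (Sylow 17 ↥(W.subgroupOf M)) := inferInstance
  set R₁ : Subgroup M := (R₀ : Subgroup ↥(W.subgroupOf M)).map (W.subgroupOf M).subtype with hR₁
  have hfr : normalizer (R₁ : Set M) ⊔ W.subgroupOf M = ⊤ := Sylow.normalizer_sup_eq_top R₀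
  have h2N : 2 ∣ Nat.card (normalizer (R₁ : Set M)) := by
    have h1 : (W.subgroupOf M).index ∣ Nat.card (normalizer (R₁ : Set M)) := by
      rw [← relIndex_top_right, ← hfr, relIndex_sup_right]
      exact relIndex_dvd_card _ _
    refine dvd_trans ?_ h1
    have h := (W.subgroupOf M).card_mul_index
    have h2M : 2 ∣ Nat.card M := S.z_ord ▸ Subgroup.orderOf_dvd_natCard M hzM
    rw [← h] at h2M
    refine (Nat.coprime_two_left.2 ?_).dvd_of_dvd_mul_left h2M
    rwa [Nat.card_congr (subgroupOfEquivOfLe hWM).toEquiv]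
  obtain ⟨s, hs⟩ := exists_prime_orderOf_dvd_card' 2 h2N
  obtain ⟨T', hT'⟩ := (show IsPGroup 2 (zpowers (s : M)) from IsPGroup.of_card (n := 1) (by
    rw [Nat.card_zpowers, Subgroup.orderOf_coe, hs, pow_one])).exists_le_sylow
  obtain ⟨m, hm⟩ := MulAction.exists_smul_eq M T' T
  have hmem : m * (s : M) * m⁻¹ ∈ (T : Subgroup M) := by rw [← hm]; exact ⟨_, hT' (mem_zpowers _), rfl⟩
  have hsz : (m : G) * ((s : M) : G) * (m : G)⁻¹ = z := hTinv ⟨_, hmem⟩ (by
    rw [Subgroup.orderOf_mk, ← MulAut.conj_apply, MulEquiv.orderOf_eq, Subgroup.orderOf_coe, hs])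
  have h17R : 17 ∣ Nat.card R₁ := by
    rw [hR₁, card_map_of_injective (W.subgroupOf M).subtype_injective]
    exact R₀.dvd_card_of_dvd_card (by rwa [Nat.card_congr (subgroupOfEquivOfLe hWM).toEquiv])
  set R₂ : Subgroup G := (R₁.map M.subtype).map (MulAut.conj (m : G)).toMonoidHom with hR₂
  have hR₂p : IsPGroup 17 R₂ := ((R₀.2.map _).map _).map _
  have hR₂W : R₂ ≤ W := by
    rintro _ ⟨_, ⟨_, ⟨v, -, rfl⟩, rfl⟩, rfl⟩
    exact hWn _ (hMNy m.2) _ (mem_subgroupOf.1 v.2)
  have hR₂c : Nat.card R₂ = 17 := by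
    obtain ⟨i, hi⟩ := IsPGroup.iff_card.1 hR₂p
    have h1 : 17 ∣ Nat.card R₂ := by
      rw [hR₂, card_map_of_injective (MulAut.conj (m : G)).injective, card_map_of_injective M.subtype_injective]
      exact h17R
    have h2 : Nat.card R₂ ∣ Nat.card G := card_subgroup_dvd_card _
    have hi1 : i ≠ 0 := by rintro rfl; rw [hi, pow_zero] at h1; norm_num at h1
    have hi2 : i ≤ 1 := by
      by_contra hc
      have h3 : 17 ^ 2 ∣ Nat.card K * 85680 := hG ▸ ((pow_dvd_pow 17 (by omega : 2 ≤ i)).trans (hi ▸ h2))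
      rw [show (85680 : ℕ) = 17 * 5040 by norm_num, ← mul_assoc, mul_comm (Nat.card K) 17, mul_assoc,
        pow_two] at h3
      rcases (Nat.Prime.dvd_mul (by norm_num)).1 (Nat.dvd_of_mul_dvd_mul_left (by norm_num) h3) with h4 | h4
      · exact hK17 h4
      · norm_num at h4
    rw [hi, show i = 1 by omega, pow_one]
  -- `z` inverts it
  have hzR : z ∈ normalizer (R₂ : Set G) := by
    refine mem_normalizer_fintype ?_
    rintro _ ⟨_, ⟨v, hv, rfl⟩, rfl⟩
    refine ⟨_, ⟨(s : M) * v * (s : M)⁻¹, (mem_normalizer_iff.1 s.2 v).1 hv, rfl⟩, ?_⟩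
    show (m : G) * (((s : M) : G) * (v : G) * ((s : M) : G)⁻¹) * (m : G)⁻¹ = z * ((m : G) * (v : G) * (m : G)⁻¹) * z⁻¹
    rw [← hsz]; group
  have hR₂m : ∀ v ∈ R₂, z * v * z⁻¹ = v⁻¹ := by
    haveI : IsCyclic R₂ := isCyclic_of_prime_card hR₂c
    intro v hv
    obtain ⟨g, hg⟩ := IsCyclic.exists_generator (α := R₂)
    obtain ⟨i, hi⟩ := mem_zpowers_iff.1 (hg ⟨z * g * z⁻¹, (mem_normalizer_iff.1 hzR g).1 g.2⟩)
    have hgo : orderOf g = 17 := by rw [orderOf_eq_card_of_forall_mem_zpowers hg, hR₂c]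
    have hi' : (g : G) ^ i = z * g * z⁻¹ := by simpa using congrArg Subtype.val hi
    have h2 : (g : G) ^ (i * i) = (g : G) ^ (1 : ℤ) := by
      rw [zpow_mul, hi', conj_zpow, hi', zpow_one]
      calc z * (z * (g : G) * z⁻¹) * z⁻¹ = (z * z) * g * (z * z)⁻¹ := by group
        _ = g := by rw [hzz, one_mul, inv_one, mul_one]
    rw [zpow_eq_zpow_iff_modEq, Subgroup.orderOf_coe, hgo, Int.modEq_iff_dvd] at h2
    have h2' : ((17 : ℕ) : ℤ) ∣ (1 - i) * (1 + i) := by rw [show (1 - i) * (1 + i) = 1 - i * i by ring]; exact h2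
    rcases (Nat.prime_iff_prime_int.1 (show Nat.Prime 17 by norm_num)).dvd_or_dvd h2' with h | h
    · exfalso
      have hge : (g : G) ^ i = g := by
        conv_rhs => rw [← zpow_one (g : G)]
        rw [zpow_eq_zpow_iff_modEq, Subgroup.orderOf_coe, hgo, Int.modEq_iff_dvd]; exact h
      rw [hge] at hi'
      exact hnoinv (by norm_num) (by norm_num) hK17 g z (by rw [Subgroup.orderOf_coe, hgo]) S.z_ord
        (mul_inv_eq_iff_eq_mul.1 hi'.symm)
    · obtain ⟨j, hj⟩ := mem_zpowers_iff.1 (hg ⟨v, hv⟩)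
      have hj' : (g : G) ^ j = v := by simpa using congrArg Subtype.val hj
      have hge : (g : G) ^ i = (g : G)⁻¹ := by
        rw [← zpow_neg_one, zpow_eq_zpow_iff_modEq, Subgroup.orderOf_coe, hgo, Int.modEq_iff_dvd,
          show -1 - i = -(1 + i) by ring]
        exact dvd_neg.2 h
      rw [← hj', ← conj_zpow, ← hi', hge, inv_zpow]
  have hI : ∀ v : G, v ∈ W → z * v * z⁻¹ = v⁻¹ → v ∈ R₂ := by
    have hle : {v : G | v ∈ R₂} ⊆ {v : G | v ∈ W ∧ z * v * z⁻¹ = v⁻¹} := fun v hv => ⟨hR₂W hv, hR₂m v hv⟩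
    have hcI : {v : G | v ∈ W ∧ z * v * z⁻¹ = v⁻¹}.ncard = 17 := by
      rw [← Nat.card_coe_set_eq]
      exact (card_inverted hWodd hzz (fun k hk => hWn z (hMNy hzM) k hk)).trans hw17
    have hcR : {v : G | v ∈ R₂}.ncard = 17 := by rw [← Nat.card_coe_set_eq]; exact hR₂c
    have heq := Set.eq_of_subset_of_ncard_le hle (by rw [hcI, hcR]) (Set.toFinite _)
    intro v h1 h2
    exact (heq.symm ▸ ⟨h1, h2⟩ : v ∈ {v : G | v ∈ R₂})
  set NR := normalizer (R₂ : Set G) with hNR
  have hDR : D ≤ NR := by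
    intro d hd
    refine mem_normalizer_fintype fun v hv => ?_
    rw [hDeq] at hd
    refine hI _ (hWn d hd.1 v (hR₂W hv)) ?_
    have hc : z * d = d * z := (mem_centralizer_singleton_iff.1 hd.2).symm
    calc z * (d * v * d⁻¹) * z⁻¹ = (z * d) * v * (z * d)⁻¹ := by group
      _ = d * (z * v * z⁻¹) * d⁻¹ := by rw [hc]; group
      _ = (d * v * d⁻¹)⁻¹ := by rw [hR₂m v hv, conj_inv]
  have h680 : Nat.card K * 680 ∣ Nat.card NR := by
    have h1 : Nat.card K * 40 ∣ Nat.card NR := hDc ▸ card_dvd_of_le hDR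
    have h2 : 17 ∣ Nat.card NR := hR₂c ▸ card_dvd_of_le (le_normalizer : R₂ ≤ NR)
    have h3 : (Nat.card K * 40).Coprime 17 :=
      Nat.Coprime.mul_left ((Nat.Prime.coprime_iff_not_dvd (by norm_num)).2 hK17).symm (by norm_num)
    rw [show Nat.card K * 680 = Nat.card K * 40 * 17 by ring]
    exact h3.mul_dvd_of_dvd_of_dvd h1 h2
  have h17idx : ¬ 17 ∣ R₂.index := by
    intro h17
    have h := R₂.card_mul_index
    rw [hR₂c, hG, show 85680 = 17 * 5040 by norm_num, ← mul_assoc, mul_comm (Nat.card K) 17, mul_assoc] at h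
    rw [Nat.eq_of_mul_eq_mul_left (by norm_num) h] at h17
    rcases (Nat.Prime.dvd_mul (by norm_num)).1 h17 with h17 | h17
    · exact hK17 h17
    · norm_num at h17
  have hn17 : NR.index = 1 ∨ NR.index = 18 := by
    have h126 : NR.index ∣ 126 := by
      obtain ⟨a, ha⟩ := h680
      have h := NR.card_mul_index
      rw [ha, hG, mul_assoc (Nat.card K), mul_assoc] at h
      have h' := Nat.eq_of_mul_eq_mul_left hK0 h
      rw [show (85680 : ℕ) = 680 * 126 by norm_num, mul_assoc] at h'
      exact Dvd.intro_left _ (Nat.eq_of_mul_eq_mul_left (by norm_num) h')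
    have hmod : NR.index % 17 = 1 := by
      have h : Nat.card (Sylow 17 G) ≡ 1 [MOD 17] := card_sylow_modEq_one 17 G
      rw [(hR₂p.toSylow h17idx).card_eq_index_normalizer] at h
      exact h
    have hmem : NR.index ∈ Nat.divisors 126 := Nat.mem_divisors.2 ⟨h126, by norm_num⟩
    have key : ∀ d ∈ Nat.divisors 126, d % 17 = 1 → d = 1 ∨ d = 18 := by decide +kernel
    exact key _ hmem hmod
  haveI hR₂cyc : IsCyclic R₂ := isCyclic_of_prime_card hR₂c
  obtain ⟨r, hr⟩ := exists_prime_orderOf_dvd_card' (G := R₂) 17 hR₂c.symm.dvd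
  rcases hn17 with h1 | h18
  · -- a normal subgroup of order 17 is central
    rw [index_eq_one] at h1
    haveI : R₂.Normal := normalizer_eq_top_iff.1 h1
    have hcom : ∀ v : G, v * (r : G) * v⁻¹ = r := by
      intro v
      have hv : v ∈ commutator G := S.perfect ▸ mem_top v
      set φ : G →* MulAut R₂ := MulAut.conjNormal
      have hab : ∀ f g : MulAut R₂, f * g = g * f := fun f g => by
        obtain ⟨e⟩ : Nonempty (MulAut R₂ ≃* (ZMod (Nat.card R₂))ˣ) := ⟨IsCyclic.mulAutMulEquiv R₂⟩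
        exact e.injective (by rw [map_mul, map_mul, mul_comm])
      have hle : commutator G ≤ φ.ker := by
        rw [_root_.commutator_def]
        refine commutator_le.2 fun a _ b _ => ?_
        rw [MonoidHom.mem_ker, map_commutatorElement, commutatorElement_eq_one_iff_mul_comm]
        exact hab _ _
      have h := congrArg Subtype.val (MulEquiv.congr_fun (MonoidHom.mem_ker.1 (hle hv)) r)
      rwa [MulAut.conjNormal_apply] at h
    exact hnoinv (by norm_num) (by norm_num) hK17 r z (by rw [Subgroup.orderOf_coe, hr]) S.z_ord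
      (mul_inv_eq_iff_eq_mul.1 (hcom z))
  · set CR := centralizer (R₂ : Set G) with hCR
    have hCRle : CR ≤ NR := centralizer_le_normalizer (R₂ : Set G)
    have hCRodd : Odd (Nat.card CR) := by
      rw [← Nat.not_even_iff_odd, even_iff_two_dvd]
      intro h2
      obtain ⟨s, hs⟩ := exists_prime_orderOf_dvd_card' 2 h2
      exact hnoinv (by norm_num) (by norm_num) hK17 r s (by rw [Subgroup.orderOf_coe, hr])
        (by rw [Subgroup.orderOf_coe, hs]) (mem_centralizer_iff.1 s.2 r r.2).symm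
    have hCRn : ∀ n ∈ NR, ∀ c ∈ CR, n * c * n⁻¹ ∈ CR := by
      intro n hn c hc
      refine mem_centralizer_iff.2 fun v hv => ?_
      have h : n⁻¹ * v * n ∈ R₂ := by simpa using (mem_normalizer_iff.1 (inv_mem hn) v).1 hv
      have hcv := mem_centralizer_iff.1 hc _ h
      calc v * (n * c * n⁻¹) = n * ((n⁻¹ * v * n) * c) * n⁻¹ := by group
        _ = n * (c * (n⁻¹ * v * n)) * n⁻¹ := by rw [hcv]
        _ = n * c * n⁻¹ * v := by group
    have hNRc : Nat.card NR = Nat.card K * 4760 := by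
      have h := NR.card_mul_index
      rw [h18, hG] at h
      omega
    have h7CR : 7 ∣ Nat.card CR := by
      obtain ⟨a, ha⟩ := exists_prime_orderOf_dvd_card' (G := NR) 7
        (by rw [hNRc]; exact dvd_mul_of_dvd_right (by norm_num) _)
      set φ := R₂.normalizerMonoidHom
      have hd : orderOf (φ a) ∣ Nat.card (MulAut R₂) := _root_.orderOf_dvd_natCard _
      rw [IsCyclic.card_mulAut, hR₂c, Nat.totient_prime (by norm_num)] at hd
      have hd7 : orderOf (φ a) ∣ 7 := ha ▸ orderOf_map_dvd φ a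
      have h1 : φ a = 1 := orderOf_eq_one_iff.1 (Nat.eq_one_of_dvd_coprimes (show Nat.Coprime 7 (17 - 1) by norm_num) hd7 hd)
      have hmem : (a : G) ∈ CR := mem_centralizer_iff.2 fun v hv =>
        (mul_inv_eq_iff_eq_mul.1 (congrArg Subtype.val (MulEquiv.congr_fun h1 ⟨v, hv⟩) : (a : G) * v * (a : G)⁻¹ = v)).symm
      have h := Subgroup.orderOf_dvd_natCard _ hmem
      rwa [Subgroup.orderOf_coe, ha] at h
    exact not_dvd_of_normal_odd (by norm_num) (by norm_num) (S.cyc 7 (by norm_num) (by norm_num))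
      (hnoinv (by norm_num) (by norm_num) hK7) NR CR hCRle hCRn hCRodd
      (by rw [hNRc]; exact dvd_mul_of_dvd_right (by norm_num) _) h7CR

end

end Cfsg.Lib.SemiCyclic
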