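import Mathlib
import Cfsg.Agent.Classical.SL

/-!
# Facts on `SL(2, 5)`
-/

set_option autoImplicit false

namespace Cfsg.Lib.SemiCyclic

open scoped MatrixGroups commutatorElement

local notation "L5" => SL(2, ZMod 5)
local notation "M5" => Matrix (Fin 2) (Fin 2) (ZMod 5)

instance : Fact (Nat.Prime 5) := ⟨Nat.prime_five⟩

/-- `diag (2, 3)`. -/
def torusFive : L5 := ⟨!![2, 0; 0, 3], by rw [Matrix.det_fin_two_of]; decide⟩

/-- The upper transvections. -/
def upperFive (x : ZMod 5) : L5 := ⟨!![1, x; 0, 1], by simp [Matrix.det_fin_two]⟩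

/-- The lower transvections. -/
def lowerFive (x : ZMod 5) : L5 := ⟨!![1, 0; x, 1], by simp [Matrix.det_fin_two]⟩

theorem sl_five_perfect : commutator L5 = ⊤ := by
  have hu : ∀ c : ZMod 5, torusFive * upperFive (2 * c) = upperFive c * (upperFive (2 * c) * torusFive) := by
    decide +kernel
  have hl : ∀ c : ZMod 5, torusFive * lowerFive (2 * c) = lowerFive c * (lowerFive (2 * c) * torusFive) := by
    decide +kernel
  have hmem : ∀ a b d : L5, a * b = d * (b * a) → d ∈ commutator L5 := fun a b d h => by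
    rw [show d = ⁅a, b⁆ by rw [commutatorElement_def, h]; group, commutator_def]
    exact Subgroup.commutator_mem_commutator (Subgroup.mem_top a) (Subgroup.mem_top b)
  refine Cfsg.Lib.Classical.eq_top_of_transvection_mem _ fun i j hij c => ?_
  fin_cases i <;> fin_cases j
  · exact absurd rfl hij
  · convert hmem _ _ _ (hu c) using 1
    refine Subtype.ext ?_
    rw [Matrix.SpecialLinearGroup.transvection_coe]
    ext r s; fin_cases r <;> fin_cases s <;> simp [upperFive, Matrix.single]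
  · convert hmem _ _ _ (hl c) using 1
    refine Subtype.ext ?_
    rw [Matrix.SpecialLinearGroup.transvection_coe]
    ext r s; fin_cases r <;> fin_cases s <;> simp [lowerFive, Matrix.single]
  · exact absurd rfl hij

theorem sl_five_two (d : L5) (h : d * d = 1) (hne : d ≠ 1) : d = -1 := by
  have key : ∀ a b c e : ZMod 5, a * e - b * c = 1 → e = a → -b = b → -c = c →
      (a = 1 ∧ b = 0 ∧ c = 0 ∧ e = 1) ∨ (a = -1 ∧ b = 0 ∧ c = 0 ∧ e = -1) := by decide +kernel
  have h2 := congrArg (fun A : L5 => (A : M5)) (eq_inv_of_mul_eq_one_left h)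
  simp only [Matrix.SpecialLinearGroup.coe_inv, Matrix.adjugate_fin_two] at h2
  have e00 := congrFun (congrFun h2 0) 0
  have e01 := congrFun (congrFun h2 0) 1
  have e10 := congrFun (congrFun h2 1) 0
  simp at e00 e01 e10
  have hd := d.2
  rw [Matrix.det_fin_two] at hd
  rcases key _ _ _ _ hd e00.symm e01.symm e10.symm with ⟨ha, hb, hc, he⟩ | ⟨ha, hb, hc, he⟩
  · exfalso
    refine hne (Subtype.ext ?_)
    ext r s; fin_cases r <;> fin_cases s <;> simp [ha, hb, hc, he]
  · refine Subtype.ext ?_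
    ext r s; fin_cases r <;> fin_cases s <;> simp [ha, hb, hc, he]

theorem sl_five_orders (d : L5) : d ^ 10 = 1 ∨ d ^ 4 = 1 ∨ d ^ 6 = 1 := by
  have key : ∀ t : ZMod 5, t = 0 ∨ t = 1 ∨ t = -1 ∨ t = 2 ∨ t = -2 := by decide +kernel
  have five : (5 : ZMod 5) = 0 := by decide
  set X := (d : M5) with hX
  set t := X.trace with ht
  have hd := d.2
  rw [Matrix.det_fin_two] at hd
  have h2 : X * X = t • X - 1 := by
    rw [ht, Matrix.trace_fin_two]
    ext r s
    fin_cases r <;> fin_cases s <;> simp [hX, Matrix.mul_apply, Fin.sum_univ_two] <;>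
      first | linear_combination -hd | linear_combination hd | ring
  have h3 : X * X * X = (t * t - 1) • X - t • (1 : M5) := by
    rw [h2, sub_mul, smul_mul_assoc, h2, one_mul, smul_sub, smul_smul, sub_smul, one_smul]
    abel
  have h5 : X * X * X * (X * X) = (t ^ 4 - 3 * t ^ 2 + 1) • X - (t ^ 3 - 2 * t) • (1 : M5) := by
    have h4 : X * X * X * X = (t ^ 3 - 2 * t) • X - (t * t - 1) • (1 : M5) := by
      rw [h3, sub_mul, smul_mul_assoc, h2, smul_mul_assoc, one_mul, smul_sub, smul_smul,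
        show (t ^ 3 - 2 * t : ZMod 5) = (t * t - 1) * t - t by ring, sub_smul ((t * t - 1) * t)]
      abel
    rw [← mul_assoc, h4, sub_mul, smul_mul_assoc, h2, smul_mul_assoc, one_mul, smul_sub, smul_smul,
      show (t ^ 4 - 3 * t ^ 2 + 1 : ZMod 5) = (t ^ 3 - 2 * t) * t - (t * t - 1) by ring,
      sub_smul ((t ^ 3 - 2 * t) * t)]
    abel
  have hp3 : ((d ^ 3 : L5) : M5) = X * X * X := by rw [pow_succ, pow_two]; rfl
  have hp5 : ((d ^ 5 : L5) : M5) = X * X * X * (X * X) := by
    rw [show d ^ 5 = d ^ 3 * (d * d) by rw [← pow_two, ← pow_add], Matrix.SpecialLinearGroup.coe_mul, hp3]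
    rfl
  have hsq : ∀ (n : ℕ) (e : ZMod 5), e * e = 1 → ((d ^ n : L5) : M5) = e • (1 : M5) → d ^ (n * 2) = 1 :=
    fun n e he hn => by
      refine Subtype.ext ?_
      rw [pow_mul, pow_two (d ^ n), Matrix.SpecialLinearGroup.coe_mul, hn, smul_mul_smul_comm, mul_one, he, one_smul]
      rfl
  rcases key t with h | h | h | h | h
  · refine Or.inr (Or.inl (hsq 2 (-1) (by decide) ?_))
    rw [pow_two, Matrix.SpecialLinearGroup.coe_mul, ← hX, h2, h, zero_smul, zero_sub, neg_one_smul]
  · refine Or.inr (Or.inr (hsq 3 (-1) (by decide) ?_))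
    rw [hp3, h3, h, mul_one, sub_self, zero_smul, zero_sub, one_smul, neg_one_smul]
  · refine Or.inr (Or.inr (hsq 3 1 (by decide) ?_))
    rw [hp3, h3, h, neg_mul_neg, mul_one, sub_self, zero_smul, zero_sub, neg_one_smul, one_smul, neg_neg]
  · refine Or.inl (hsq 5 1 (by decide) ?_)
    rw [hp5, h5, h, show ((2 : ZMod 5) ^ 4 - 3 * 2 ^ 2 + 1) = 0 by decide,
      show ((2 : ZMod 5) ^ 3 - 2 * 2) = -1 by decide, zero_smul, zero_sub, neg_one_smul, one_smul, neg_neg]
  · refine Or.inl (hsq 5 (-1) (by decide) ?_)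
    rw [hp5, h5, h, show ((-2 : ZMod 5) ^ 4 - 3 * (-2) ^ 2 + 1) = 0 by decide,
      show ((-2 : ZMod 5) ^ 3 - 2 * (-2)) = 1 by decide, zero_smul, zero_sub, one_smul, neg_one_smul]

theorem sl_five_invert (y : L5) : ∃ g : L5, g * y = y⁻¹ * g := by
  have key : ∀ u b c : ZMod 5, ∃ x w v : ZMod 5, x * u + w * c + v * b = 0 ∧ -(x * x) - w * v = 1 := by
    decide +kernel
  obtain ⟨x, w, v, h0, h1⟩ := key ((y : M5) 0 0 - (y : M5) 1 1) ((y : M5) 0 1) ((y : M5) 1 0)
  let g : L5 := ⟨!![x, w; v, -x], by rw [Matrix.det_fin_two_of]; linear_combination h1⟩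
  refine ⟨g, Subtype.ext ?_⟩
  rw [Matrix.SpecialLinearGroup.coe_mul, Matrix.SpecialLinearGroup.coe_mul, Matrix.SpecialLinearGroup.coe_inv,
    Matrix.adjugate_fin_two, show (g : M5) = !![x, w; v, -x] from rfl]
  ext r s
  fin_cases r <;> fin_cases s <;> simp [Matrix.mul_apply, Fin.sum_univ_two] <;>
    first | linear_combination h0 | linear_combination -h0 | ring

theorem sl_five_not_comm : ∃ a b : L5, a ^ 5 = 1 ∧ b ^ 5 = 1 ∧ a * b ≠ b * a :=
  ⟨upperFive 1, lowerFive 1, by decide +kernel⟩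

end Cfsg.Lib.SemiCyclic
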