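import Cfsg.Agent.SemiCyclic.Kill.Model
import Cfsg.Agent.SemiCyclic.Kill.SLFive

/-!
# The quotient for `p = 5`
-/

set_option autoImplicit false
set_option linter.style.haveILetI false
set_option linter.unusedSectionVars false

namespace Cfsg.Lib.SemiCyclic

open Subgroup
open scoped MatrixGroups

universe u

local notation "L5" => SL(2, ZMod 5)

theorem card_L5 : Nat.card L5 = 120 := by rw [card_SL_two 5]; norm_num

/-- A subgroup of order `5` is a Sylow subgroup. -/
theorem mem_sylow_five {y : L5} (hy : orderOf y = 5) : ∃ P : Sylow 5 L5, (P : Subgroup L5) = zpowers y := by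
  have hp : IsPGroup 5 (zpowers y) := IsPGroup.of_card (n := 1) (by rw [Nat.card_zpowers, hy, pow_one])
  obtain ⟨P, hP⟩ := hp.exists_le_sylow
  refine ⟨P, (eq_of_le_of_card_ge hP ?_).symm⟩
  rw [P.card_eq_multiplicity, card_L5, Nat.card_zpowers, hy, show (120 : ℕ) = 5 ^ 1 * 24 by norm_num,
    Nat.factorization_mul (by norm_num) (by norm_num), Finsupp.add_apply, Nat.factorization_pow,
    Finsupp.smul_apply, Nat.Prime.factorization_self Nat.prime_five,
    Nat.factorization_eq_zero_of_not_dvd (show ¬ 5 ∣ 24 by norm_num)]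
  norm_num

theorem card_sylow_five : Nat.card (Sylow 5 L5) = 6 := by
  obtain ⟨P⟩ : Nonempty (Sylow 5 L5) := inferInstance
  have h1 : Nat.card (Sylow 5 L5) ≡ 1 [MOD 5] := card_sylow_modEq_one 5 L5
  have hP : 5 ∣ Nat.card (P : Subgroup L5) := P.dvd_card_of_dvd_card (by rw [card_L5]; norm_num)
  have h2 : Nat.card (Sylow 5 L5) ∣ 24 := by
    refine dvd_trans P.card_dvd_index ?_
    have h3 := (P : Subgroup L5).card_mul_index
    rw [card_L5] at h3
    obtain ⟨k, hk⟩ := hP
    rw [hk, show (120 : ℕ) = 5 * 24 by norm_num, mul_assoc] at h3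
    exact ⟨k, by rw [mul_comm]; exact (Nat.eq_of_mul_eq_mul_left (by norm_num) h3).symm⟩
  have h4 : Nat.card (Sylow 5 L5) ≠ 1 := by
    intro h
    obtain ⟨a, b, ha, hb, hne⟩ := sl_five_not_comm
    haveI : Subsingleton (Sylow 5 L5) := (Nat.card_eq_one_iff_unique.1 h).1
    have key : ∀ c : L5, c ^ 5 = 1 → c ∈ (P : Subgroup L5) := fun c hc => by
      obtain ⟨Q, hQ⟩ := (show IsPGroup 5 (zpowers c) from IsPGroup.of_card_dvd_pow (n := 1) (by
        rw [Nat.card_zpowers, pow_one]; exact orderOf_dvd_of_pow_eq_one hc)).exists_le_sylow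
      rw [Subsingleton.elim P Q]; exact hQ (mem_zpowers c)
    have hc5 : Nat.card (P : Subgroup L5) = 5 := by
      obtain ⟨c, hc⟩ := exists_prime_orderOf_dvd_card' 5 hP
      obtain ⟨Q, hQ⟩ := mem_sylow_five (y := (c : L5)) (by rw [Subgroup.orderOf_coe]; exact hc)
      rw [Subsingleton.elim P Q, hQ, Nat.card_zpowers, Subgroup.orderOf_coe, hc]
    haveI := isCyclic_of_prime_card hc5
    letI : CommGroup (P : Subgroup L5) := IsCyclic.commGroup
    exact hne (congrArg Subtype.val (mul_comm (⟨a, key a ha⟩ : (P : Subgroup L5)) ⟨b, key b hb⟩))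
  have hle := Nat.le_of_dvd (by norm_num) h2
  unfold Nat.ModEq at h1
  interval_cases h : Nat.card (Sylow 5 L5) <;> omega

theorem card_normalizer_five {y : L5} (hy : orderOf y = 5) :
    Nat.card (normalizer ((zpowers y : Subgroup L5) : Set L5)) = 20 := by
  obtain ⟨P, hP⟩ := mem_sylow_five hy
  have h := (normalizer (P : Set L5)).card_mul_index
  rw [← P.card_eq_index_normalizer, card_sylow_five, card_L5, show (P : Set L5) = ((zpowers y : Subgroup L5) : Set L5) from congrArg SetLike.coe hP] at h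
  omega

/-- A 5-element normalizing a subgroup of order 5 lies in it. -/
theorem mem_of_normalizes {y c : L5} (hy : orderOf y = 5) (hc : c ^ 5 = 1)
    (hn : c ∈ normalizer ((zpowers y : Subgroup L5) : Set L5)) : c ∈ zpowers y := by
  obtain ⟨P, hP⟩ := mem_sylow_five hy
  have hcp : IsPGroup 5 (zpowers c) := IsPGroup.of_card_dvd_pow (n := 1) (by
    rw [Nat.card_zpowers, pow_one]; exact orderOf_dvd_of_pow_eq_one hc)
  rw [← hP] at hn ⊢
  exact ((le_inf le_rfl (zpowers_le.2 hn)).trans (hcp.inf_normalizer_sylow P).le).trans inf_le_right (mem_zpowers c)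

theorem pow_five {y : L5} (hy : orderOf y = 5) : y ^ 5 = 1 := by
  have h := pow_orderOf_eq_one y
  rwa [hy] at h

theorem card_sylow_le (U : Subgroup L5) : Nat.card (Sylow 5 U) ≤ Nat.card (Sylow 5 L5) := by
  choose f hf using fun P : Sylow 5 U => P.exists_comap_subtype_eq
  refine Nat.card_le_card_of_injective f fun P Q e => Sylow.ext ?_
  rw [← hf P, ← hf Q, e]

/-- An involutory automorphism fixing an element of order 5 fixes a subgroup of order divisible by 4. -/
theorem four_dvd_fixed (α : MulAut L5) (h2 : ∀ g, α (α g) = g) {y : L5} (hy : orderOf y = 5) (hfix : α y = y)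
    (U : Subgroup L5) (hU : ∀ g, g ∈ U ↔ α g = g) : 4 ∣ Nat.card U := by
  obtain ⟨P, hP⟩ := mem_sylow_five hy
  set N := normalizer ((zpowers y : Subgroup L5) : Set L5)
  -- a second element of order five
  obtain ⟨y2, hy2, hy2n⟩ : ∃ y2 : L5, orderOf y2 = 5 ∧ y2 ∉ zpowers y := by
    by_contra hcon
    push Not at hcon
    obtain ⟨a, b, ha, hb, hne⟩ := sl_five_not_comm
    have key : ∀ c : L5, c ^ 5 = 1 → c ∈ zpowers y := fun c hc => by
      rcases (Nat.dvd_prime Nat.prime_five).1 (orderOf_dvd_of_pow_eq_one hc) with h | h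
      · rw [orderOf_eq_one_iff.1 h]; exact one_mem _
      · exact hcon c h
    obtain ⟨i, hi⟩ := mem_zpowers_iff.1 (key a ha)
    obtain ⟨j, hj⟩ := mem_zpowers_iff.1 (key b hb)
    exact hne (hi ▸ hj ▸ ((Commute.refl y).zpow_zpow i j).eq)
  -- the conjugates of the second subgroup by powers of `y` are all the others
  have horbit : ∀ g : L5, orderOf g = 5 → g ∉ zpowers y →
      ∃ i : ℕ, y ^ i * g * (y ^ i)⁻¹ ∈ zpowers y2 := by
    intro g hg hgn
    classical
    obtain ⟨Q, hQ⟩ := mem_sylow_five hy2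
    obtain ⟨R, hR⟩ := mem_sylow_five hg
    let f : Fin 5 → Sylow 5 L5 := fun i => (y ^ (i : ℕ)) • Q
    have hfP : ∀ i, f i ≠ P := by
      intro i e
      have e' : Q = (y ^ (i : ℕ))⁻¹ • P := by rw [← e, inv_smul_smul]
      have hm : (y ^ (i : ℕ))⁻¹ • P = P := Sylow.smul_eq_iff_mem_normalizer.2
        (le_normalizer (inv_mem (hP ▸ pow_mem (mem_zpowers y) _)))
      rw [hm] at e'
      exact hy2n (by rw [← hP, ← e', hQ]; exact mem_zpowers y2)
    have hinj : Function.Injective f := by
      intro i j e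
      by_contra hij
      have hfix' : (y ^ (i : ℕ))⁻¹ * y ^ (j : ℕ) ∈ normalizer ((zpowers y2 : Subgroup L5) : Set L5) := by
        rw [← hQ]
        refine Sylow.smul_eq_iff_mem_normalizer.1 ?_
        rw [mul_smul, inv_smul_eq_iff]; exact e.symm
      have h5 : ((y ^ (i : ℕ))⁻¹ * y ^ (j : ℕ)) ^ 5 = 1 := by
        have hc : Commute (y ^ (i : ℕ))⁻¹ (y ^ (j : ℕ)) := ((Commute.refl y).pow_pow _ _).inv_left
        rw [hc.mul_pow, inv_pow, ← pow_mul, ← pow_mul, mul_comm (i : ℕ), mul_comm (j : ℕ), pow_mul, pow_mul,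
          pow_five hy, one_pow, one_pow, inv_one, mul_one]
      have hmem := mem_of_normalizes hy2 h5 hfix'
      rcases (Nat.dvd_prime Nat.prime_five).1 (orderOf_dvd_of_pow_eq_one h5) with h1 | h1
      · rw [orderOf_eq_one_iff, inv_mul_eq_one, pow_eq_pow_iff_modEq, hy] at h1
        refine hij (Fin.ext ?_)
        have := i.2; have := j.2
        unfold Nat.ModEq at h1; omega
      · refine hy2n ?_
        have hle : zpowers ((y ^ (i : ℕ))⁻¹ * y ^ (j : ℕ)) = zpowers y2 := eq_of_le_of_card_ge (zpowers_le.2 hmem)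
          (by rw [Nat.card_zpowers, Nat.card_zpowers, h1, hy2])
        have : y2 ∈ zpowers ((y ^ (i : ℕ))⁻¹ * y ^ (j : ℕ)) := hle ▸ mem_zpowers y2
        exact (zpowers_le.2 (mul_mem (inv_mem (pow_mem (mem_zpowers y) _)) (pow_mem (mem_zpowers y) _))) this
    haveI := Fintype.ofFinite (Sylow 5 L5)
    have himg : (Finset.univ.image f) = Finset.univ.erase P := by
      refine Finset.eq_of_subset_of_card_le (fun X hX => ?_) ?_
      · obtain ⟨i, -, rfl⟩ := Finset.mem_image.1 hX
        exact Finset.mem_erase.2 ⟨hfP i, Finset.mem_univ _⟩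
      · rw [Finset.card_image_of_injective _ hinj, Finset.card_erase_of_mem (Finset.mem_univ _), Finset.card_univ,
          ← Nat.card_eq_fintype_card, card_sylow_five, Finset.card_univ, Fintype.card_fin]
    have hRP : R ≠ P := fun e => hgn (by rw [← hP, ← e, hR]; exact mem_zpowers g)
    obtain ⟨i, -, hi⟩ := Finset.mem_image.1 (himg ▸ Finset.mem_erase.2 ⟨hRP, Finset.mem_univ R⟩)
    have hi' : (y ^ (i : ℕ))⁻¹ • R = Q := by rw [← hi, inv_smul_smul]
    refine ⟨5 - (i : ℕ), ?_⟩
    have e1 : y ^ (5 - (i : ℕ)) = (y ^ (i : ℕ))⁻¹ := eq_inv_of_mul_eq_one_left (by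
      rw [← pow_add, Nat.sub_add_cancel i.2.le, pow_five hy])
    rw [e1, ← hQ, ← hi']
    show _ ∈ (((y ^ (i : ℕ))⁻¹ • R : Sylow 5 L5) : Subgroup L5)
    exact ⟨g, by rw [hR]; exact mem_zpowers g, rfl⟩
  -- every Sylow subgroup is invariant
  have hinvt : ∀ g : L5, orderOf g = 5 → g ∉ zpowers y → α g ∈ zpowers g := by
    intro g hg hgn
    have hag : orderOf (α g) = 5 := by rw [MulEquiv.orderOf_eq, hg]
    have hagn : α g ∉ zpowers y := fun h => hgn (by
      obtain ⟨i, hi⟩ := mem_zpowers_iff.1 h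
      refine mem_zpowers_iff.2 ⟨i, ?_⟩
      rw [← h2 g, ← hi, map_zpow, hfix])
    -- α moves `⟨g⟩` to its conjugate by a power of `y`
    obtain ⟨i, hi⟩ := horbit g hg hgn
    obtain ⟨j, hj⟩ := horbit (α g) hag hagn
    have hgen : ∀ a b : L5, orderOf a = 5 → b ∈ zpowers a → orderOf b = 5 → a ∈ zpowers b := fun a b ha hb hb5 => by
      have := eq_of_le_of_card_ge (zpowers_le.2 hb) (by rw [Nat.card_zpowers, Nat.card_zpowers, ha, hb5])
      rw [this]; exact mem_zpowers a
    have ho : ∀ (n : ℕ) (a : L5), orderOf (y ^ n * a * (y ^ n)⁻¹) = orderOf a := fun n a => by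
      rw [← MulAut.conj_apply, MulEquiv.orderOf_eq]
    have h1 : y2 ∈ zpowers (y ^ i * g * (y ^ i)⁻¹) := hgen _ _ hy2 hi (by rw [ho, hg])
    obtain ⟨k, hk⟩ := mem_zpowers_iff.1 hj
    obtain ⟨l, hl⟩ := mem_zpowers_iff.1 h1
    -- `α g` is a power of a conjugate of `g`
    set c := (y ^ j)⁻¹ * y ^ i
    have hag' : α g = (c * g * c⁻¹) ^ (l * k) := by
      rw [← hl, ← zpow_mul, conj_zpow] at hk
      rw [conj_zpow]
      calc α g = (y ^ j)⁻¹ * (y ^ j * α g * (y ^ j)⁻¹) * y ^ j := by group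
        _ = _ := by rw [← hk]; simp only [c]; group
    have hc : α c = c := by simp only [c, map_mul, map_inv, map_pow, hfix]
    -- applying α once more
    have hgg : g ∈ zpowers (c * c * g * (c * c)⁻¹) := by
      refine mem_zpowers_iff.2 ⟨(l * k) * (l * k), ?_⟩
      calc (c * c * g * (c * c)⁻¹) ^ ((l * k) * (l * k)) = c * ((c * g * c⁻¹) ^ (l * k)) ^ (l * k) * c⁻¹ := by
            rw [← zpow_mul, ← conj_zpow, mul_inv_rev]; group
        _ = c * (α g) ^ (l * k) * c⁻¹ := by rw [← hag']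
        _ = α ((c * g * c⁻¹) ^ (l * k)) := by rw [map_zpow, map_mul, map_mul, map_inv, hc, conj_zpow]
        _ = g := by rw [← hag', h2]
    have hcm : c ∈ zpowers y := mul_mem (inv_mem (pow_mem (mem_zpowers y) _)) (pow_mem (mem_zpowers y) _)
    have hcc : c * c ∈ normalizer ((zpowers g : Subgroup L5) : Set L5) := by
      have e : zpowers g = zpowers (c * c * g * (c * c)⁻¹) := eq_of_le_of_card_ge (zpowers_le.2 hgg) (by
        rw [Nat.card_zpowers, Nat.card_zpowers, ← MulAut.conj_apply, MulEquiv.orderOf_eq])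
      have hinv : ∀ v : L5, v ∈ zpowers g → c * c * v * (c * c)⁻¹ ∈ zpowers g := fun v hv => by
        obtain ⟨n, rfl⟩ := mem_zpowers_iff.1 hv
        rw [← conj_zpow, e]
        exact zpow_mem (mem_zpowers _) _
      exact mem_normalizer_fintype hinv
    have hc5 : c ^ 5 = 1 := by
      obtain ⟨n, hn⟩ := mem_zpowers_iff.1 hcm
      rw [← hn, ← zpow_natCast, ← zpow_mul, mul_comm, zpow_mul, zpow_natCast, pow_five hy, one_zpow]
    have hcc' : c * c ∈ zpowers g := mem_of_normalizes hg (by
      rw [← pow_two, ← pow_mul, mul_comm, pow_mul, hc5, one_pow]) hcc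
    have hc1 : c * c = 1 := by
      by_contra hne
      refine hgn ?_
      have hcy : c * c ∈ zpowers y := mul_mem hcm hcm
      have ho' : orderOf (c * c) = 5 := orderOf_eq_prime (by rw [← pow_two, ← pow_mul, mul_comm, pow_mul, hc5, one_pow]) hne
      exact (zpowers_le.2 hcy) (hgen _ _ hg hcc' ho')
    have hc0 : c = 1 := by
      have : c ^ 5 = c * (c * c) * (c * c) := by simp only [pow_succ, pow_zero, one_mul, mul_assoc]
      rw [hc5, hc1, mul_one, mul_one] at this
      exact this.symm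
    rw [hag', hc0, one_mul, inv_one, mul_one]
    exact zpow_mem (mem_zpowers g) _
  -- two fixed elements of order five
  have hy2U : y2 ∈ U := by
    rw [hU]
    obtain ⟨k, hk⟩ := mem_zpowers_iff.1 (hinvt y2 hy2 hy2n)
    have hk2 : y2 ^ (k * k) = y2 := by rw [zpow_mul, hk, ← map_zpow, hk, h2]
    have hd : (5 : ℤ) ∣ k * k - 1 := by
      have h := hk2.trans (zpow_one y2).symm
      rw [zpow_eq_zpow_iff_modEq, hy2] at h
      have h' := Int.modEq_iff_dvd.1 h.symm
      simpa using h'
    rcases (show (5 : ℤ) ∣ k - 1 ∨ (5 : ℤ) ∣ k + 1 from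
      (Nat.prime_iff_prime_int.1 Nat.prime_five).dvd_or_dvd (by rw [show (k - 1) * (k + 1) = k * k - 1 by ring]; exact hd))
      with h | h
    · rw [← hk]
      conv_rhs => rw [← zpow_one y2]
      rw [zpow_eq_zpow_iff_modEq, hy2, Int.modEq_iff_dvd, show (1 : ℤ) - k = -(k - 1) by ring]
      exact dvd_neg.2 h
    exfalso
    have hinv : α y2 = y2⁻¹ := by
      rw [← hk, ← zpow_neg_one, zpow_eq_zpow_iff_modEq, hy2, Int.modEq_iff_dvd, show (-1 : ℤ) - k = -(k + 1) by ring]
      exact dvd_neg.2 h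
    set g3 := y2 * y * y2⁻¹ with hg3
    have hg3o : orderOf g3 = 5 := by rw [hg3, ← MulAut.conj_apply, MulEquiv.orderOf_eq, hy]
    by_cases hg3n : g3 ∈ zpowers y
    · refine hy2n (mem_of_normalizes hy (pow_five hy2) (mem_normalizer_fintype fun v hv => ?_))
      obtain ⟨n, rfl⟩ := mem_zpowers_iff.1 hv
      rw [← conj_zpow]
      exact zpow_mem hg3n _
    obtain ⟨n, hn⟩ := mem_zpowers_iff.1 (hinvt g3 hg3o hg3n)
    rw [hg3, map_mul, map_mul, map_inv, hinv, hfix, inv_inv, conj_zpow] at hn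
    have hsq : y2⁻¹ * y2⁻¹ * y * (y2⁻¹ * y2⁻¹)⁻¹ = y ^ n := by
      calc y2⁻¹ * y2⁻¹ * y * (y2⁻¹ * y2⁻¹)⁻¹ = y2⁻¹ * (y2⁻¹ * y * y2) * y2 := by
            rw [mul_inv_rev, inv_inv]; simp only [mul_assoc]
        _ = y2⁻¹ * (y2 * y ^ n * y2⁻¹) * y2 := by rw [hn]
        _ = y ^ n := by group
    have hm : y2⁻¹ * y2⁻¹ ∈ normalizer ((zpowers y : Subgroup L5) : Set L5) := mem_normalizer_fintype fun v hv => by
      obtain ⟨q, rfl⟩ := mem_zpowers_iff.1 hv
      rw [← conj_zpow, hsq]
      exact zpow_mem (zpow_mem (mem_zpowers y) _) _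
    refine hy2n (mem_of_normalizes hy (pow_five hy2) ?_)
    have h6 : y2 = (y2⁻¹ * y2⁻¹) ^ 2 := by
      rw [pow_two]
      calc y2 = y2 * (y2 ^ 5)⁻¹ := by rw [pow_five hy2, inv_one, mul_one]
        _ = _ := by group
    rw [h6]
    exact pow_mem hm 2
  -- six subgroups of order five in `U`
  have hyU : y ∈ U := (hU y).2 hfix
  have h2U : 2 ∣ Nat.card U ∧ Nat.card (Sylow 5 U) = 6 := by
    have hn : Nat.card (Sylow 5 U) = 6 := by
      have hne : Nat.card (Sylow 5 U) ≠ 1 := by
        intro h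
        haveI : Subsingleton (Sylow 5 U) := (Nat.card_eq_one_iff_unique.1 h).1
        obtain ⟨A, hA⟩ := (show IsPGroup 5 (zpowers (⟨y, hyU⟩ : U)) from IsPGroup.of_card (n := 1) (by
          rw [Nat.card_zpowers, Subgroup.orderOf_mk, hy, pow_one])).exists_le_sylow
        obtain ⟨B, hB⟩ := (show IsPGroup 5 (zpowers (⟨y2, hy2U⟩ : U)) from IsPGroup.of_card (n := 1) (by
          rw [Nat.card_zpowers, Subgroup.orderOf_mk, hy2, pow_one])).exists_le_sylow
        have hAp : IsPGroup 5 ((A : Subgroup U).map U.subtype) := A.2.map _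
        obtain ⟨X, hX⟩ := hAp.exists_le_sylow
        obtain ⟨P', hP'⟩ := mem_sylow_five hy
        have hXy : zpowers y ≤ (X : Subgroup L5) := zpowers_le.2 (hX ⟨_, hA (mem_zpowers _), rfl⟩)
        have hXc : Nat.card (X : Subgroup L5) = 5 := by
          rw [X.card_eq_multiplicity, ← P'.card_eq_multiplicity, hP', Nat.card_zpowers, hy]
        have hXe : zpowers y = (X : Subgroup L5) := eq_of_le_of_card_ge hXy (by rw [hXc, Nat.card_zpowers, hy])
        refine hy2n (hXe ▸ hX ⟨⟨y2, hy2U⟩, ?_, rfl⟩)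
        rw [Subsingleton.elim A B]
        exact hB (mem_zpowers _)
      have h1 : Nat.card (Sylow 5 U) ≡ 1 [MOD 5] := card_sylow_modEq_one 5 U
      have hle : Nat.card (Sylow 5 U) ≤ 6 := by
        rw [← card_sylow_five]
        exact card_sylow_le U
      unfold Nat.ModEq at h1
      have := Nat.card_pos (α := Sylow 5 U)
      omega
    obtain ⟨A⟩ : Nonempty (Sylow 5 U) := inferInstance
    have h6 : 6 ∣ Nat.card U := hn ▸ (A.card_dvd_index.trans (index_dvd_card _))
    exact ⟨(show 2 ∣ 6 by norm_num).trans h6, hn⟩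
  -- the central involution normalizes every subgroup
  obtain ⟨m, hm⟩ := exists_prime_orderOf_dvd_card' 2 h2U.1
  have hm' : (m : L5) = -1 := by
    refine sl_five_two _ ?_ ?_
    · rw [← pow_two]
      exact orderOf_dvd_iff_pow_eq_one.1 (by rw [Subgroup.orderOf_coe, hm])
    · intro h
      rw [show m = 1 from Subtype.ext h, orderOf_one] at hm
      omega
  obtain ⟨A⟩ : Nonempty (Sylow 5 U) := inferInstance
  have hmA : m ∈ normalizer ((A : Subgroup U) : Set U) := mem_normalizer_iff.2 fun v => by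
    have hmv : m * v = v * m := Subtype.ext (by
      show (m : L5) * v = v * m
      rw [hm']
      exact Subtype.ext (by simp))
    rw [hmv, mul_inv_cancel_right]
  have hN2 : 2 ∣ Nat.card (normalizer ((A : Subgroup U) : Set U)) := by
    have h := Subgroup.orderOf_dvd_natCard _ hmA
    rwa [hm] at h
  have hcard : Nat.card (normalizer ((A : Subgroup U) : Set U)) * Nat.card (Sylow 5 U) = Nat.card U := by
    have h := (normalizer (A : Set U)).card_mul_index
    rw [← A.card_eq_index_normalizer] at h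
    exact h
  rw [← hcard, h2U.2, show (4 : ℕ) = 2 * 2 by norm_num]
  exact Nat.mul_dvd_mul hN2 (by norm_num)

/-- A four-group does not centralize an element of order 5. -/
theorem no_four_five {H : Type u} [Group H] [Finite H] {z₀ : H} (T : TopData H z₀ 5) {y a b : H}
    (hy : orderOf y = 5) (ha : orderOf a = 2) (hb : orderOf b = 2) (hne : a ≠ b) (hay : a * y = y * a)
    (hby : b * y = y * b) : False := by
  haveI : Fact (Nat.Prime 2) := ⟨Nat.prime_two⟩
  obtain ⟨N, hN, hidx, ⟨e⟩, -⟩ := T.sub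
  haveI := hN
  have hyN : y ∈ N := by
    have h1 : orderOf (y : H ⧸ N) ∣ 5 := hy ▸ orderOf_map_dvd (QuotientGroup.mk' N) y
    have h1' : orderOf (y : H ⧸ N) ∣ 2 := (_root_.orderOf_dvd_natCard _).trans (by rw [← index_eq_card, hidx])
    exact (QuotientGroup.eq_one_iff y).1 (orderOf_eq_one_iff.1
      (Nat.eq_one_of_dvd_coprimes (show Nat.Coprime 5 2 by norm_num) h1 h1'))
  have hone : ∀ w : N, w * w = 1 → w ≠ 1 → e w = -1 := fun w h1 h2 =>
    sl_five_two _ (by rw [← map_mul, h1, map_one]) (by rwa [ne_eq, map_eq_one_iff e e.injective])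
  have hsq : ∀ v : H, orderOf v = 2 → v * v = 1 := fun v hv => by rw [← pow_two, ← hv, pow_orderOf_eq_one]
  have hn1 : ∀ (v : H) (hvN : v ∈ N), orderOf v = 2 → (⟨v, hvN⟩ : N) ≠ 1 := fun v hvN hv h => by
    rw [show v = 1 from congrArg Subtype.val h, orderOf_one] at hv; omega
  obtain ⟨v, hvN, hv, hvy⟩ : ∃ v : H, v ∉ N ∧ orderOf v = 2 ∧ v * y = y * v := by
    by_cases haN : a ∈ N
    · refine ⟨b, fun hbN => hne (congrArg Subtype.val (e.injective (a₁ := ⟨a, haN⟩) (a₂ := ⟨b, hbN⟩) ?_)), hb, hby⟩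
      rw [hone _ (Subtype.ext (hsq a ha)) (hn1 a haN ha), hone _ (Subtype.ext (hsq b hb)) (hn1 b hbN hb)]
    · exact ⟨a, haN, ha, hay⟩
  let α : MulAut L5 := e.symm.trans ((MulAut.conjNormal v : MulAut N).trans e)
  have hα : ∀ g : L5, α g = e ⟨v * (e.symm g : N) * v⁻¹, hN.conj_mem _ (e.symm g).2 v⟩ := fun g => rfl
  have hfix : ∀ g : L5, α g = g ↔ v * (e.symm g : N) * v⁻¹ = ((e.symm g : N) : H) := fun g => by
    rw [hα]
    constructor
    · intro h
      have h' := congrArg e.symm h
      rw [e.symm_apply_apply] at h'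
      exact congrArg Subtype.val h'
    · intro h
      conv_rhs => rw [← e.apply_symm_apply g]
      exact congrArg e (Subtype.ext h)
  have h2 : ∀ g, α (α g) = g := fun g => by
    rw [hα (α g), hα g]
    conv_rhs => rw [← e.apply_symm_apply g]
    refine congrArg e (Subtype.ext ?_)
    simp only [e.symm_apply_apply]
    have hvi : v⁻¹ = v := inv_eq_of_mul_eq_one_right (hsq v hv)
    calc v * (v * (e.symm g : N) * v⁻¹) * v⁻¹ = (v * v) * (e.symm g : N) * (v⁻¹ * v⁻¹) := by group
      _ = _ := by rw [hvi, hsq v hv, one_mul, mul_one]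
  let U : Subgroup L5 :=
    { carrier := {g | α g = g}
      one_mem' := map_one α
      mul_mem' := fun {g h} hg hh => by
        show α (g * h) = g * h
        rw [map_mul, hg, hh]
      inv_mem' := fun {g} hg => by
        show α g⁻¹ = g⁻¹
        rw [map_inv, hg] }
  have h4 := four_dvd_fixed α h2 (y := e ⟨y, hyN⟩) (by rw [MulEquiv.orderOf_eq, Subgroup.orderOf_mk, hy])
    ((hfix _).2 (by rw [e.symm_apply_apply]; exact mul_inv_eq_iff_eq_mul.2 hvy)) U (fun g => Iff.rfl)
  obtain ⟨E, hE⟩ := Sylow.exists_subgroup_card_pow_prime 2 (n := 2) (by norm_num; exact h4)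
  -- an element of order four fixed by `v`
  obtain ⟨d, hd⟩ : ∃ d : E, orderOf d = 4 := by
    by_contra hcon
    push Not at hcon
    have hex : ∀ d : E, d * d = 1 := fun d => by
      have h1 : orderOf d ∣ 2 ^ 2 := hE ▸ _root_.orderOf_dvd_natCard d
      obtain ⟨j, hj, hjd⟩ := (Nat.dvd_prime_pow Nat.prime_two).1 h1
      rw [← pow_two]
      refine orderOf_dvd_iff_pow_eq_one.1 ?_
      rw [hjd]
      interval_cases j
      · exact one_dvd _
      · exact dvd_rfl
      · exact absurd hjd (by simpa using hcon d)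
    have hle : Nat.card E ≤ Nat.card (Fin 2) := by
      classical
      refine Nat.card_le_card_of_injective (fun d : E => if d = 1 then (0 : Fin 2) else 1) fun d d' h => ?_
      have key : ∀ c : E, c ≠ 1 → ((c : U) : L5) = -1 := fun c hc => sl_five_two _
        (congrArg (fun c : E => ((c : U) : L5)) (hex c)) (fun h => hc (Subtype.ext (Subtype.ext h)))
      by_cases hd : d = 1 <;> by_cases hd' : d' = 1
      · rw [hd, hd']
      · simp only [hd, hd', ↓reduceIte] at h; exact absurd h (by decide)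
      · simp only [hd, hd', ↓reduceIte] at h; exact absurd h (by decide)
      · exact Subtype.ext (Subtype.ext ((key d hd).trans (key d' hd').symm))
    rw [hE, Nat.card_fin] at hle
    norm_num at hle
  set d' : H := ((e.symm ((d : U) : L5) : N) : H) with hd'def
  have hd4 : orderOf d' = 4 := by
    rw [hd'def, Subgroup.orderOf_coe, MulEquiv.orderOf_eq, Subgroup.orderOf_coe, Subgroup.orderOf_coe, hd]
  have hcomm : d' * v = v * d' := (mul_inv_eq_iff_eq_mul.1 ((hfix _).1 (d : U).2)).symm
  set W := closure ({d', v} : Set H)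
  have hW : IsPGroup 2 W := by
    have hc : IsMulCommutative W := isMulCommutative_closure (by
      rintro p (rfl | rfl) q (rfl | rfl)
      exacts [rfl, hcomm, hcomm.symm, rfl])
    intro u
    refine ⟨2, Subtype.ext ?_⟩
    obtain ⟨u, hu⟩ := u
    show u ^ 4 = 1
    induction hu using closure_induction with
    | mem p hp =>
      rcases hp with rfl | rfl
      · rw [← hd4, pow_orderOf_eq_one]
      · rw [show (4 : ℕ) = 2 * 2 by norm_num, pow_mul, pow_two p, hsq _ hv, one_pow]
    | one => exact one_pow _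
    | mul p q hp hq ihp ihq =>
      have hcpq : Commute p q := congrArg Subtype.val (hc.is_comm.comm ⟨p, hp⟩ ⟨q, hq⟩)
      rw [hcpq.mul_pow, ihp, ihq, one_mul]
    | inv p hp ih => rw [inv_pow, ih, inv_one]
  obtain ⟨S, hS⟩ := hW.exists_le_sylow
  have hdS : d' ∈ S := hS (subset_closure (by simp))
  have hvS : v ∈ S := hS (subset_closure (by simp))
  have h := sd_four_invol (T.sd S) (d := ⟨d', hdS⟩) (v := ⟨v, hvS⟩) ((Subgroup.orderOf_mk _ _).trans hd4)
    ((Subgroup.orderOf_mk _ _).trans hv) (Subtype.ext hcomm)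
  exact hvN ((show v = d' * d' from congrArg Subtype.val h) ▸ mul_mem (e.symm _).2 (e.symm _).2)

/-- An element of order 4 of the subgroup of index two does not centralize an element of order 5. -/
theorem no_order_four {H : Type u} [Group H] [Finite H] (N : Subgroup H) [N.Normal] (hidx : N.index = 2)
    (e : N ≃* L5) {y t : H} (hy : orderOf y = 5) (ht : orderOf t = 4) (htN : t ∈ N) (hyt : t * y = y * t) : False := by
  have hyN : y ∈ N := by
    have h1 : orderOf (y : H ⧸ N) ∣ 5 := hy ▸ orderOf_map_dvd (QuotientGroup.mk' N) y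
    have h1' : orderOf (y : H ⧸ N) ∣ 2 := (_root_.orderOf_dvd_natCard _).trans (by rw [← index_eq_card, hidx])
    exact (QuotientGroup.eq_one_iff y).1 (orderOf_eq_one_iff.1
      (Nat.eq_one_of_dvd_coprimes (show Nat.Coprime 5 2 by norm_num) h1 h1'))
  have hc : Commute (⟨t, htN⟩ : N) ⟨y, hyN⟩ := Subtype.ext hyt
  have h20 : orderOf (e (⟨t, htN⟩ * ⟨y, hyN⟩)) = 20 := by
    rw [MulEquiv.orderOf_eq, hc.orderOf_mul_eq_mul_orderOf_of_coprime (by rw [Subgroup.orderOf_mk, Subgroup.orderOf_mk, ht, hy]; norm_num),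
      Subgroup.orderOf_mk, Subgroup.orderOf_mk, ht, hy]
  rcases sl_five_orders (e (⟨t, htN⟩ * ⟨y, hyN⟩)) with h | h | h <;>
    have h' := orderOf_dvd_of_pow_eq_one h <;> rw [h20] at h' <;> norm_num at h'

/-- The normalizer of a subgroup of order 5. -/
theorem card_normalizer_top {H : Type u} [Group H] [Finite H] (N : Subgroup H) [N.Normal] (hidx : N.index = 2)
    (e : N ≃* L5) {y : H} (hy : orderOf y = 5) :
    Nat.card (normalizer ((zpowers y : Subgroup H) : Set H)) = 40 := by
  have hyN : y ∈ N := by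
    have h1 : orderOf (y : H ⧸ N) ∣ 5 := hy ▸ orderOf_map_dvd (QuotientGroup.mk' N) y
    have h1' : orderOf (y : H ⧸ N) ∣ 2 := (_root_.orderOf_dvd_natCard _).trans (by rw [← index_eq_card, hidx])
    exact (QuotientGroup.eq_one_iff y).1 (orderOf_eq_one_iff.1
      (Nat.eq_one_of_dvd_coprimes (show Nat.Coprime 5 2 by norm_num) h1 h1'))
  set M := normalizer ((zpowers y : Subgroup H) : Set H) with hM
  set yN : N := ⟨y, hyN⟩
  have hyo : orderOf yN = 5 := (Subgroup.orderOf_mk _ _).trans hy
  have hsub : (zpowers y).subgroupOf N = zpowers yN := by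
    refine Subgroup.map_injective N.subtype_injective ?_
    rw [map_subgroupOf_eq_of_le (zpowers_le.2 hyN), MonoidHom.map_zpowers]
    rfl
  have h20 : Nat.card (M.subgroupOf N) = 20 := by
    have h1 : M.subgroupOf N = normalizer ((zpowers yN : Subgroup N) : Set N) := by
      rw [hM, subgroupOf_normalizer_eq (zpowers_le.2 hyN), hsub]
    rw [h1, ← card_map_of_injective (f := e.toMonoidHom) e.injective, map_normalizer_eq_of_bijective _ e.bijective,
      MonoidHom.map_zpowers]
    exact card_normalizer_five ((MulEquiv.orderOf_eq e yN).trans hyo)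
  -- Frattini
  obtain ⟨P, hP⟩ : ∃ P : Sylow 5 N, (P : Subgroup N) = zpowers yN := by
    have hp : IsPGroup 5 (zpowers yN) := IsPGroup.of_card (n := 1) (by rw [Nat.card_zpowers, hyo, pow_one])
    refine ⟨hp.toSylow (fun h => ?_), rfl⟩
    have h' := (zpowers yN).card_mul_index
    rw [Nat.card_zpowers, hyo, Nat.card_congr e.toEquiv, card_L5] at h'
    omega
  have hfr : M ⊔ N = ⊤ := by
    have h := Sylow.normalizer_sup_eq_top P
    rwa [hP, MonoidHom.map_zpowers] at h
  have hrel : N.relIndex M = 2 := by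
    rw [← hidx, ← relIndex_top_right, ← hfr, relIndex_sup_right]
  have h := (N.subgroupOf M).card_mul_index
  have he : Nat.card (N.subgroupOf M) = Nat.card (M.subgroupOf N) := by
    rw [← card_map_of_injective M.subtype_injective, ← card_map_of_injective (K := M.subgroupOf N) N.subtype_injective,
      subgroupOf_map_subtype, subgroupOf_map_subtype, inf_comm]
  rw [he, h20, ← relIndex, hrel] at h
  exact h.symm

end Cfsg.Lib.SemiCyclic
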