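import Cfsg.Agent.SemiCyclic.Shape

/-!
# Sylow orders in the centralizer of the involution

If `x` in `C_G(z)` has odd prime order `r`, then `C_G(z)` contains a Sylow `r`-subgroup, apart from one possible
factor 3, which needs that no element of order 4 of `C_G(z)` centralizes `x`.
-/

set_option autoImplicit false
set_option linter.style.haveILetI false
set_option linter.unusedSectionVars false

namespace Cfsg.Lib.SemiCyclic

open Subgroup MulAction

universe u

variable {G : Type u} [Group G] [Finite G]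

/-- A Sylow subgroup of the centralizer of `x` normalizing a Sylow 2-subgroup of it containing `z`. -/
theorem exists_normalizing_pair {r : ℕ} [hr : Fact r.Prime] (hr2 : r ≠ 2)
    (hcyc : ∀ R : Sylow r G, IsCyclic ↥(R : Subgroup G)) {z x : G} (hz : orderOf z = 2) (hx : orderOf x = r)
    (hzx : z * x = x * z) :
    ∃ (R : Sylow r G) (T : Subgroup G), x ∈ R ∧ IsPGroup 2 T ∧ z ∈ T ∧ (∀ t ∈ T, t * x = x * t) ∧
      (R : Subgroup G) ≤ normalizer (T : Set G) ∧
      ∀ t : G, IsPGroup 2 (zpowers t) → t * x = x * t → ∃ g : G, g * t * g⁻¹ ∈ T := by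
  haveI : Fact (Nat.Prime 2) := ⟨Nat.prime_two⟩
  set K := centralizer ({x} : Set G) with hK
  have hKm : ∀ {v : G}, v ∈ K ↔ v * x = x * v := fun {v} => mem_centralizer_singleton_iff
  have hxp : IsPGroup r (zpowers x) := IsPGroup.of_card (n := 1) (by rw [Nat.card_zpowers, hx, pow_one])
  obtain ⟨R, hR⟩ := hxp.exists_le_sylow
  haveI := hcyc R
  have hxR : x ∈ R := hR (mem_zpowers x)
  have hRK : (R : Subgroup G) ≤ K := fun v hv => hKm.2 (by
    letI : CommGroup ↥(R : Subgroup G) := IsCyclic.commGroup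
    exact congrArg Subtype.val (mul_comm (⟨v, hv⟩ : ↥(R : Subgroup G)) ⟨x, hxR⟩))
  let P : Sylow r K := R.subtype hRK
  have hPc : (P : Subgroup K) = (R : Subgroup G).subgroupOf K := rfl
  have hxK : x ∈ K := hRK hxR
  have hxPmem : (⟨x, hxK⟩ : K) ∈ P := by show (⟨x, hxK⟩ : K) ∈ (P : Subgroup K); rw [hPc]; exact mem_subgroupOf.2 hxR
  haveI hPcyc : IsCyclic ↥(P : Subgroup K) := (subgroupOfEquivOfLe hRK).symm.isCyclic.1 (hcyc R)
  -- the normalizer of a Sylow subgroup centralizes it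
  have hNC : normalizer ((P : Subgroup K) : Set K) ≤ centralizer ((P : Subgroup K) : Set K) := by
    intro y hy
    haveI : Fact r.Prime := hr
    obtain ⟨a, b, hab, ha, hb⟩ : ∃ a b : K, a * b = y ∧ (orderOf a).Coprime r ∧ b ∈ P ∧ True := by
      classical
      obtain ⟨hn, hm⟩ : orderOf y ≠ 0 ∧ True := ⟨(orderOf_pos y).ne', trivial⟩
      set n := orderOf y
      set A := r ^ n.factorization r
      set B := n / A
      have hAB : A * B = n := Nat.mul_div_cancel' (Nat.ordProj_dvd n r)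
      have hcop : A.Coprime B := (Nat.coprime_ordCompl hr.out hn).pow_left _
      obtain ⟨u, v, huv⟩ : ∃ u v : ℤ, (A : ℤ) * u + (B : ℤ) * v = 1 :=
        ⟨Nat.gcdA A B, Nat.gcdB A B, by rw [← Nat.gcd_eq_gcd_ab, hcop]; rfl⟩
      refine ⟨y ^ ((A : ℤ) * u), y ^ ((B : ℤ) * v), by rw [← zpow_add, huv, zpow_one], ?_, ?_, trivial⟩
      · have : orderOf (y ^ ((A : ℤ) * u)) ∣ B := orderOf_dvd_of_pow_eq_one (by
          rw [← zpow_natCast, ← zpow_mul, show (A : ℤ) * u * B = ((A * B : ℕ) : ℤ) * u by push_cast; ring, zpow_mul,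
            zpow_natCast, hAB, pow_orderOf_eq_one, one_zpow])
        exact ((Nat.coprime_ordCompl hr.out hn).symm).coprime_dvd_left this
      · have hbn : y ^ ((B : ℤ) * v) ∈ normalizer ((P : Subgroup K) : Set K) := zpow_mem hy _
        have hbp : IsPGroup r (zpowers (y ^ ((B : ℤ) * v))) := by
          refine IsPGroup.of_card_dvd_pow (n := n.factorization r) ?_
          rw [Nat.card_zpowers]
          refine orderOf_dvd_of_pow_eq_one ?_
          rw [← zpow_natCast, ← zpow_mul, show (B : ℤ) * v * (A : ℕ) = ((A * B : ℕ) : ℤ) * v by push_cast; ring,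
            zpow_mul, zpow_natCast, hAB, pow_orderOf_eq_one, one_zpow]
        exact ((le_inf le_rfl (zpowers_le.2 hbn)).trans (hbp.inf_normalizer_sylow P).le).trans inf_le_right (mem_zpowers _)
    have hbn : b ∈ normalizer ((P : Subgroup K) : Set K) := le_normalizer hb.1
    have han : a ∈ normalizer ((P : Subgroup K) : Set K) := by
      have := mul_mem hy (inv_mem hbn)
      rwa [← hab, mul_inv_cancel_right] at this
    rw [← hab]
    refine mul_mem (centralizes_of_fix P.2 han ha hxPmem ?_ (Subtype.ext (hKm.1 a.2))) ?_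
    · intro h
      have := congrArg Subtype.val h
      simp only at this
      rw [show x = 1 from this, orderOf_one] at hx
      exact hr.out.ne_one hx.symm
    · exact le_centralizer_iff_isMulCommutative.2
        (⟨⟨fun p q => (IsCyclic.commGroup (α := ↥(P : Subgroup K))).mul_comm p q⟩⟩) hb.1
  have hcomp := MonoidHom.ker_transferSylow_isComplement' P hNC
  set M := (MonoidHom.transferSylow P hNC).ker with hM
  have hMidx : M.index = Nat.card (P : Subgroup K) := hcomp.symm.card_left.symm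
  have hMev : ∀ v : K, IsPGroup 2 (zpowers v) → v ∈ M := by
    intro v hv
    obtain ⟨i, hi⟩ := IsPGroup.iff_card.1 hv
    obtain ⟨j, hj⟩ := IsPGroup.iff_card.1 P.2
    rw [← QuotientGroup.eq_one_iff, ← orderOf_eq_one_iff]
    refine Nat.eq_one_of_dvd_coprimes (((Nat.coprime_primes Nat.prime_two hr.out).2 (Ne.symm hr2)).pow i j) ?_ ?_
    · have h1 := orderOf_map_dvd (QuotientGroup.mk' M) v
      rw [← Nat.card_zpowers v, hi] at h1
      exact h1
    · have h1 := orderOf_dvd_natCard (v : K ⧸ M)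
      rwa [← index_eq_card, hMidx, hj] at h1
  have hzK : z ∈ K := hKm.2 hzx
  have hzp : IsPGroup 2 (zpowers (⟨z, hzK⟩ : K)) := IsPGroup.of_card (n := 1) (by
    rw [Nat.card_zpowers, ← Subgroup.orderOf_coe, hz, pow_one])
  -- a Sylow 2-subgroup of `M` containing `z`
  have hzM : (⟨z, hzK⟩ : K) ∈ M := hMev _ hzp
  obtain ⟨S₂, hS₂⟩ := (show IsPGroup 2 (zpowers (⟨⟨z, hzK⟩, hzM⟩ : M)) from IsPGroup.of_card (n := 1) (by
    rw [Nat.card_zpowers, ← Subgroup.orderOf_coe, ← Subgroup.orderOf_coe, hz, pow_one])).exists_le_sylow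
  set T₀ : Subgroup K := (S₂ : Subgroup M).map M.subtype with hT₀
  have hT₀p : IsPGroup 2 T₀ := S₂.2.map _
  have hfr : normalizer ((T₀ : Subgroup K) : Set K) ⊔ M = ⊤ := Sylow.normalizer_sup_eq_top S₂
  set N := normalizer ((T₀ : Subgroup K) : Set K) with hN
  obtain ⟨P' : Sylow r N⟩ : Nonempty (Sylow r N) := inferInstance
  have hdvd : Nat.card (P : Subgroup K) ∣ Nat.card ((P' : Subgroup N).map N.subtype) := by
    rw [Subgroup.card_map_of_injective N.subtype_injective]
    have h1 : M.index ∣ Nat.card N := by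
      rw [← relIndex_top_right, ← hfr]
      haveI : M.Normal := inferInstance
      rw [relIndex_sup_right]
      exact relIndex_dvd_card _ _
    obtain ⟨j, hj⟩ := IsPGroup.iff_card.1 P.2
    rw [hMidx, hj] at h1
    rw [hj]
    exact P'.pow_dvd_card_of_pow_dvd_card h1
  obtain ⟨k, hk⟩ := IsPGroup.iff_card.1 R.2
  set R₁ : Subgroup G := ((P' : Subgroup N).map N.subtype).map K.subtype with hR₁
  have hR₁p : IsPGroup r R₁ := (P'.2.map _).map _
  have hcard : Nat.card (R : Subgroup G) ≤ Nat.card R₁ := by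
    rw [hR₁, Subgroup.card_map_of_injective K.subtype_injective, ← Nat.card_congr (subgroupOfEquivOfLe hRK).toEquiv,
      ← hPc]
    exact Nat.le_of_dvd Nat.card_pos hdvd
  obtain ⟨R₂, hR₂⟩ := hR₁p.exists_le_sylow
  have hR₂eq : R₁ = (R₂ : Subgroup G) := eq_of_le_of_card_ge hR₂ (by
    refine le_trans (le_of_eq ?_) hcard
    rw [R.card_eq_multiplicity, R₂.card_eq_multiplicity])
  refine ⟨R₂, T₀.map K.subtype, ?_, hT₀p.map _, ?_, ?_, ?_, ?_⟩
  · -- `x` is central in `K`
    have hxN : (⟨x, hxK⟩ : K) ∈ N := mem_normalizer_iff.2 fun t => by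
      have ht : (⟨x, hxK⟩ : K) * t = t * ⟨x, hxK⟩ := Subtype.ext (hKm.1 t.2).symm
      rw [ht, mul_inv_cancel_right]
    have hxP' : (⟨⟨x, hxK⟩, hxN⟩ : N) ∈ P' := by
      have hsub : IsPGroup r (zpowers (⟨⟨x, hxK⟩, hxN⟩ : N)) := IsPGroup.of_card (n := 1) (by
        rw [Nat.card_zpowers, ← Subgroup.orderOf_coe, ← Subgroup.orderOf_coe, hx, pow_one])
      refine ((le_inf le_rfl (zpowers_le.2 (mem_normalizer_iff.2 fun t => ?_))).trans (hsub.inf_normalizer_sylow P').le).trans inf_le_right (mem_zpowers _)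
      have ht : (⟨⟨x, hxK⟩, hxN⟩ : N) * t = t * ⟨⟨x, hxK⟩, hxN⟩ :=
        Subtype.ext (Subtype.ext (hKm.1 (t : K).2).symm)
      rw [ht, mul_inv_cancel_right]
    show x ∈ (R₂ : Subgroup G)
    rw [← hR₂eq]
    exact ⟨_, ⟨_, hxP', rfl⟩, rfl⟩
  · exact ⟨_, ⟨_, hS₂ (mem_zpowers _), rfl⟩, rfl⟩
  · rintro _ ⟨t, -, rfl⟩
    exact hKm.1 t.2
  · rw [← hR₂eq, hR₁]
    exact (map_mono (map_subtype_le _)).trans (le_normalizer_map _)
  · intro v hv hvx
    have hvK : v ∈ K := hKm.2 hvx
    have hvp : IsPGroup 2 (zpowers (⟨v, hvK⟩ : K)) := by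
      obtain ⟨i, hi⟩ := IsPGroup.iff_card.1 hv
      exact IsPGroup.of_card (n := i) (by rw [Nat.card_zpowers, ← Subgroup.orderOf_coe, ← Nat.card_zpowers, hi])
    have hvM := hMev _ hvp
    obtain ⟨S₃, hS₃⟩ := (show IsPGroup 2 (zpowers (⟨⟨v, hvK⟩, hvM⟩ : M)) by
      obtain ⟨i, hi⟩ := IsPGroup.iff_card.1 hv
      exact IsPGroup.of_card (n := i) (by
        rw [Nat.card_zpowers, ← Subgroup.orderOf_coe, ← Subgroup.orderOf_coe, ← Nat.card_zpowers, hi])).exists_le_sylow
    obtain ⟨g, hg⟩ := MulAction.exists_smul_eq M S₃ S₂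
    refine ⟨((g : K) : G), ?_⟩
    have h1 : g * (⟨⟨v, hvK⟩, hvM⟩ : M) * g⁻¹ ∈ (S₂ : Subgroup M) := by
      rw [← hg]
      exact ⟨_, hS₃ (mem_zpowers _), rfl⟩
    exact ⟨_, ⟨_, h1, rfl⟩, rfl⟩

/-- The Sylow order in the centralizer. -/
theorem local_main (hsd : ∀ S : Sylow 2 G, Cfsg.IsQuasiDihedral ↥(S : Subgroup G)) {r : ℕ} [hr : Fact r.Prime]
    (hr2 : r ≠ 2) (hcyc : ∀ R : Sylow r G, IsCyclic ↥(R : Subgroup G)) {z x : G} (hz : orderOf z = 2)
    (hconj : ∀ s : G, orderOf s = 2 → IsConj z s) (hx : orderOf x = r) (hzx : z * x = x * z) :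
    ¬ r ∣ (centralizer ({z} : Set G)).index ∨
      (r = 3 ∧ ¬ 9 ∣ (centralizer ({z} : Set G)).index ∧
        (∀ t : G, orderOf t = 4 → t * z = z * t → t * x = x * t → False) ∧
          ∃ u : G, orderOf u = 2 ∧ u ≠ z ∧ u * z = z * u ∧ u * x = x * u) := by
  haveI : Fact (Nat.Prime 2) := ⟨Nat.prime_two⟩
  set C := centralizer ({z} : Set G) with hC
  obtain ⟨R, T, hxR, hT, hzT, hTx, hRT, hmax⟩ := exists_normalizing_pair hr2 hcyc hz hx hzx
  haveI := hcyc R
  have hz1 : z ≠ 1 := fun h => by rw [h, orderOf_one] at hz; omega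
  have hzz : z * z = 1 := by rw [← pow_two, ← hz, pow_orderOf_eq_one]
  have hfull : ∀ w : G, orderOf w = 2 → (∀ v ∈ R, v * w = w * v) → ¬ r ∣ C.index := by
    intro w hw hfix hdvd
    obtain ⟨g, hg⟩ := isConj_iff.1 (hconj w hw)
    have hle : ((R : Subgroup G).map (MulAut.conj g⁻¹).toMonoidHom) ≤ C := by
      rintro _ ⟨v, hv, rfl⟩
      refine mem_centralizer_singleton_iff.2 ?_
      show g⁻¹ * v * g⁻¹⁻¹ * z = z * (g⁻¹ * v * g⁻¹⁻¹)
      calc g⁻¹ * v * g⁻¹⁻¹ * z = g⁻¹ * (v * (g * z * g⁻¹)) * g := by group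
        _ = g⁻¹ * ((g * z * g⁻¹) * v) * g := by rw [hg, hfix v hv]
        _ = z * (g⁻¹ * v * g⁻¹⁻¹) := by group
    refine R.not_dvd_index ?_
    have hi : ((R : Subgroup G).map (MulAut.conj g⁻¹).toMonoidHom).index = (R : Subgroup G).index :=
      index_map_of_bijective (f := (MulAut.conj g⁻¹).toMonoidHom) (MulEquiv.bijective (MulAut.conj g⁻¹)) _
    rw [← hi]
    exact hdvd.trans (index_dvd_of_le hle)
  have hnm : ∀ v ∈ R, ∀ t ∈ T, v * t * v⁻¹ ∈ T := fun v hv t ht => (mem_normalizer_iff.1 (hRT hv) t).1 ht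
  by_cases hexp : ∀ t ∈ T, t * t = 1
  · -- an elementary abelian group
    have hT4 := (two_group_facts hsd T hT).2 hexp
    by_cases hz' : ∀ v ∈ R, v * z = z * v
    · exact Or.inl (hfull z hz hz')
    push Not at hz'
    obtain ⟨v₀, hv₀, hne⟩ := hz'
    -- the conjugates of `z`
    set R₀ := C.subgroupOf (R : Subgroup G) with hR₀
    have hR₀m : ∀ v : ↥(R : Subgroup G), v ∈ R₀ ↔ (v : G) * z * (v : G)⁻¹ = z := fun v => by
      rw [hR₀, mem_subgroupOf, hC, mem_centralizer_singleton_iff, mul_inv_eq_iff_eq_mul]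
    have hle3 : R₀.index ≤ 3 := by
      haveI := Fintype.ofFinite T
      classical
      rw [index_eq_card]
      let f : ↥(R : Subgroup G) ⧸ R₀ → {t : T // (t : G) ≠ 1} := Quotient.lift
        (fun v => ⟨⟨(v : G) * z * (v : G)⁻¹, hnm v v.2 z hzT⟩, fun h => hz1 (by
          simp only at h; rwa [mul_inv_eq_one, mul_eq_left] at h)⟩) (fun v w hvw => by
        have h := (hR₀m (v⁻¹ * w)).1 (QuotientGroup.leftRel_apply.1 hvw)
        refine Subtype.ext (Subtype.ext ?_)
        show (v : G) * z * (v : G)⁻¹ = (w : G) * z * (w : G)⁻¹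
        conv_lhs => rw [← h]
        push_cast
        group)
      have hf : Function.Injective f := by
        rintro ⟨v⟩ ⟨w⟩ h
        refine Quotient.sound (QuotientGroup.leftRel_apply.2 ((hR₀m _).2 ?_))
        have h' : (v : G) * z * (v : G)⁻¹ = (w : G) * z * (w : G)⁻¹ :=
          congrArg (fun u : {t : T // (t : G) ≠ 1} => ((u : T) : G)) h
        push_cast
        calc (v : G)⁻¹ * w * z * ((v : G)⁻¹ * w)⁻¹ = (v : G)⁻¹ * ((w : G) * z * (w : G)⁻¹) * v := by group
          _ = z := by rw [← h']; group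
      refine (Nat.card_le_card_of_injective f hf).trans ?_
      rw [Nat.card_eq_fintype_card, Fintype.card_subtype_compl, ← Nat.card_eq_fintype_card,
        Fintype.card_subtype]
      have : (Finset.univ.filter fun t : T => (t : G) = 1) = {1} := by ext u; simp
      rw [this, Finset.card_singleton]
      omega
    obtain ⟨k, hk⟩ := IsPGroup.iff_card.1 R.2
    have hdvd : R₀.index ∣ r ^ k := hk ▸ index_dvd_card _
    obtain ⟨j, -, hj⟩ := (Nat.dvd_prime_pow hr.out).1 hdvd
    have hj1 : 1 ≤ j := by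
      by_contra hc
      rw [show j = 0 by omega, pow_zero, index_eq_one] at hj
      have h1 := (hR₀m ⟨v₀, hv₀⟩).1 (hj ▸ mem_top _)
      exact hne (mul_inv_eq_iff_eq_mul.1 h1)
    have hr3 : r = 3 ∧ j = 1 := by
      have h3 : r ^ j ≤ 3 := hj ▸ hle3
      have h4 : 3 ≤ r := by have := hr.out.two_le; omega
      have h5 : r ≤ r ^ j := Nat.le_self_pow (by omega) _
      refine ⟨by omega, ?_⟩
      by_contra hc
      have : r ^ 2 ≤ r ^ j := Nat.pow_le_pow_right hr.out.pos (by omega)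
      have : 3 ^ 2 ≤ r ^ 2 := Nat.pow_le_pow_left h4 2
      omega
    obtain ⟨rfl, rfl⟩ := hr3
    refine Or.inr ⟨rfl, fun h9 => ?_, fun t ht htz htx => ?_, ?_⟩
    · have hle : R₀.map (R : Subgroup G).subtype ≤ C := map_le_iff_le_comap.2 le_rfl
      have hidx : (R₀.map (R : Subgroup G).subtype).index = 3 * (R : Subgroup G).index := by
        rw [index_map_subtype, hj, pow_one]
      have h := h9.trans (index_dvd_of_le hle)
      rw [hidx, show (9 : ℕ) = 3 * 3 by norm_num] at h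
      exact R.not_dvd_index (Nat.dvd_of_mul_dvd_mul_left (by norm_num) h)
    · -- an element of order four in a group of exponent two
      obtain ⟨g, hg⟩ := hmax t (IsPGroup.of_card (n := 2) (by rw [Nat.card_zpowers, ht]; norm_num)) htx
      have h2 := hexp _ hg
      have h1 : t * t = 1 := by
        have e : g * t * g⁻¹ * (g * t * g⁻¹) = g * (t * t) * g⁻¹ := by group
        rw [e, mul_inv_eq_one, mul_eq_left] at h2
        exact h2
      have h3 : orderOf t ∣ 2 := orderOf_dvd_of_pow_eq_one (by rw [pow_two, h1])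
      rw [ht] at h3
      norm_num at h3
    · -- a second involution
      set u := v₀ * z * v₀⁻¹ with hu
      have huT : u ∈ T := hnm v₀ hv₀ z hzT
      have hu2 : orderOf u = 2 := by rw [hu, ← MulAut.conj_apply, MulEquiv.orderOf_eq, hz]
      refine ⟨u, hu2, fun h => hne (mul_inv_eq_iff_eq_mul.1 h), ?_, hTx u huT⟩
      have h1 := hexp _ (mul_mem huT hzT)
      have hi : (u * z)⁻¹ = u * z := inv_eq_of_mul_eq_one_right h1
      rw [mul_inv_rev, inv_eq_of_mul_eq_one_right hzz, inv_eq_of_mul_eq_one_right (hexp u huT)] at hi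
      exact hi.symm
  · -- the square of an element of order four is fixed
    push Not at hexp
    obtain ⟨t, ht, htt⟩ := hexp
    obtain ⟨k, hk⟩ := hT ⟨t, ht⟩
    have hk' : t ^ 2 ^ k = 1 := congrArg Subtype.val hk
    obtain ⟨u, huT, hu⟩ : ∃ u ∈ T, orderOf (u * u) = 2 := by
      obtain ⟨j, -, hj⟩ := (Nat.dvd_prime_pow Nat.prime_two).1 (orderOf_dvd_of_pow_eq_one hk')
      have hj2 : 2 ≤ j := by
        by_contra hc
        refine htt ?_
        rw [← pow_two]
        exact orderOf_dvd_iff_pow_eq_one.1 (hj ▸ pow_dvd_pow 2 (show j ≤ 1 by omega))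
      refine ⟨t ^ 2 ^ (j - 2), pow_mem ht _, ?_⟩
      rw [← pow_two, ← pow_mul, orderOf_pow, hj, show 2 ^ (j - 2) * 2 = 2 ^ (j - 1) by
        rw [← pow_succ]; congr 1; omega, Nat.gcd_eq_right (pow_dvd_pow 2 (by omega)), Nat.pow_div (by omega) two_pos,
        show j - (j - 1) = 1 by omega, pow_one]
    refine Or.inl (hfull (u * u) hu fun v hv => ?_)
    have he : v * (u * u) * v⁻¹ = (v * u * v⁻¹) * (v * u * v⁻¹) := by group
    have hu' : orderOf ((v * u * v⁻¹) * (v * u * v⁻¹)) = 2 := by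
      rw [← he, ← MulAut.conj_apply, MulEquiv.orderOf_eq, hu]
    have h := (two_group_facts hsd T hT).1 _ (hnm v hv u huT) u huT hu' hu
    rw [← he] at h
    exact mul_inv_eq_iff_eq_mul.1 h

end Cfsg.Lib.SemiCyclic
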