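import Cfsg.Agent.SemiCyclic.Kill.Local
import Cfsg.Agent.SemiCyclic.Kill.Arith
import Cfsg.Agent.Classical.SL
import Cfsg.Agent.Known.SLTwo.Torus
import Cfsg.Agent.PGroups.AutTwoGroup

/-!
# Elements of the centralizer of the involution
-/

set_option autoImplicit false
set_option linter.style.haveILetI false
set_option linter.unusedSectionVars false

namespace Cfsg.Lib.SemiCyclic

open Subgroup
open scoped MatrixGroups Pointwise

universe u

theorem card_SL_two (p : ℕ) [hp : Fact p.Prime] : Nat.card SL(2, ZMod p) = p * (p ^ 2 - 1) := by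
  have h := Cfsg.Lib.Classical.card_SL_mul_eq_prod (F := ZMod p) (n := 2) (by norm_num)
  rw [Fin.prod_univ_two, ZMod.card] at h
  simp only [Fin.val_zero, Fin.val_one, pow_zero, pow_one] at h
  have h2 := hp.out.two_le
  refine Nat.eq_of_mul_eq_mul_left (show 0 < p - 1 by omega) ?_
  have e : p ^ 2 - p = (p - 1) * p := by rw [pow_two, Nat.sub_mul, one_mul]
  rw [h, e]
  ring

set_option maxRecDepth 10000 in
theorem sl_three_sylow :
    (∀ a b : SL(2, ZMod 3), a * a * a * a = 1 → b * b * b * b = 1 → a * b * (a * b) * (a * b) * (a * b) = 1) ∧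
      (Finset.univ.filter fun a : SL(2, ZMod 3) => a * a * a * a = 1).card = 8 ∧
      (∀ x : SL(2, ZMod 3), x * x * x = 1 → x ≠ 1 → ∃ a : SL(2, ZMod 3), a * a * a * a = 1 ∧ a * x ≠ x * a) := by
  decide +kernel

/-- In the model for `p = 3` an element of order 3 does not centralize a four-group. -/
theorem no_four_three {H : Type u} [Group H] [Finite H] {z₀ : H} (T : TopData H z₀ 3) {x a b : H}
    (hx : orderOf x = 3) (ha : orderOf a = 2) (hb : orderOf b = 2) (hne : a ≠ b) (hab : a * b = b * a)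
    (hax : a * x = x * a) (hbx : b * x = x * b) : False := by
  haveI : Fact (Nat.Prime 3) := ⟨Nat.prime_three⟩
  haveI : Fact (Nat.Prime 2) := ⟨Nat.prime_two⟩
  obtain ⟨N, hN, hidx, ⟨e⟩, -⟩ := T.sub
  haveI := hN
  obtain ⟨hmul, hcard, hnc⟩ := sl_three_sylow
  have h4 : ∀ v : SL(2, ZMod 3), v ^ 4 = v * v * v * v := fun v => by
    rw [pow_succ, pow_succ, pow_two]
  have haa : a * a = 1 := by rw [← pow_two, ← ha, pow_orderOf_eq_one]
  have hbb : b * b = 1 := by rw [← pow_two, ← hb, pow_orderOf_eq_one]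
  -- the normal Sylow subgroup of `N`
  let D : Subgroup H :=
    { carrier := {v | v ∈ N ∧ v ^ 4 = 1}
      one_mem' := ⟨one_mem _, one_pow _⟩
      inv_mem' := fun {v} hv => ⟨inv_mem hv.1, by rw [inv_pow, hv.2, inv_one]⟩
      mul_mem' := fun {v w} hv hw => ⟨mul_mem hv.1 hw.1, by
        have key : ∀ q : N, (q : H) ^ 4 = 1 ↔ e q * e q * e q * e q = 1 := fun q => by
          rw [← h4, ← map_pow, map_eq_one_iff e e.injective, Subtype.ext_iff]; rfl
        have := hmul _ _ ((key ⟨v, hv.1⟩).1 hv.2) ((key ⟨w, hw.1⟩).1 hw.2)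
        rw [← map_mul] at this
        exact (key ⟨v * w, mul_mem hv.1 hw.1⟩).2 (by rw [← this]; simp only [mul_assoc]; rfl)⟩ }
  have hDn : D.Normal := ⟨fun v hv g => ⟨hN.conj_mem v hv.1 g, by rw [conj_pow, hv.2]; group⟩⟩
  have hD8 : Nat.card D = 8 := by
    rw [← hcard, ← Nat.card_eq_finsetCard]
    refine Nat.card_congr ⟨fun v => ⟨e ⟨v, v.2.1⟩, Finset.mem_filter.2 ⟨Finset.mem_univ _, ?_⟩⟩,
      fun w => ⟨(e.symm w : H), (e.symm w).2, ?_⟩, fun v => ?_, fun w => ?_⟩
    · rw [← h4, ← map_pow, map_eq_one_iff e e.injective]; exact Subtype.ext v.2.2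
    · rw [← SubmonoidClass.coe_pow, ← map_pow, h4, (Finset.mem_filter.1 w.2).2, map_one]; rfl
    · exact Subtype.ext (by simp)
    · exact Subtype.ext (by simp)
  -- an involution outside `N` commuting with `x`
  obtain ⟨v, hvN, hv, hvx⟩ : ∃ v : H, v ∉ N ∧ v * v = 1 ∧ v * x = x * v := by
    by_cases haN : a ∈ N
    · by_cases hbN : b ∈ N
      · exfalso
        refine hne (congrArg Subtype.val (e.injective (a₁ := ⟨a, haN⟩) (a₂ := ⟨b, hbN⟩) ?_))
        have hu : ∀ w : SL(2, ZMod 3), w * w = 1 → w ≠ 1 → w = -1 := by decide +kernel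
        rw [hu (e ⟨a, haN⟩) (by rw [← map_mul, map_eq_one_iff e e.injective]; exact Subtype.ext haa) ?_,
          hu (e ⟨b, hbN⟩) (by rw [← map_mul, map_eq_one_iff e e.injective]; exact Subtype.ext hbb) ?_]
        · rw [ne_eq, map_eq_one_iff e e.injective]
          intro h
          rw [show b = 1 from congrArg Subtype.val h, orderOf_one] at hb
          omega
        · rw [ne_eq, map_eq_one_iff e e.injective]
          intro h
          rw [show a = 1 from congrArg Subtype.val h, orderOf_one] at ha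
          omega
      · exact ⟨b, hbN, hbb, hbx⟩
    · exact ⟨a, haN, haa, hax⟩
  -- a Sylow 2-subgroup normalized by `x`
  haveI := hDn
  set S := D ⊔ zpowers v with hS
  have hv1 : v ≠ 1 := fun h => hvN (h ▸ one_mem _)
  have hdisj : D ⊓ zpowers v = ⊥ := by
    refine (eq_bot_iff_forall _).2 fun w hw => ?_
    obtain ⟨i, rfl⟩ := mem_zpowers_iff.1 hw.2
    rcases Int.even_or_odd i with ⟨j, rfl⟩ | ⟨j, rfl⟩
    · rw [← two_mul, _root_.zpow_mul, zpow_two, hv, one_zpow]
    · rw [_root_.zpow_add, _root_.zpow_mul, zpow_two, hv, one_zpow, one_mul, zpow_one] at hw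
      exact absurd hw.1.1 hvN
  have hcardS : Nat.card S = 16 := by
    rw [hS, ← SetLike.coe_sort_coe, Subgroup.normal_mul, Nat.card_coe_set_eq]
    rw [show ((D : Set H) * (zpowers v : Set H)).ncard = Nat.card D * Nat.card (zpowers v) from ?_, hD8,
      Nat.card_zpowers, show orderOf v = 2 from orderOf_eq_prime (by rw [pow_two, hv]) hv1]
    rw [← Nat.card_prod, ← Nat.card_coe_set_eq]
    refine (Nat.card_congr (Equiv.ofBijective
      (fun q : D × zpowers v => (⟨(q.1 : H) * q.2, Set.mul_mem_mul q.1.2 q.2.2⟩ :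
        ↥((D : Set H) * (zpowers v : Set H)))) ⟨fun q q' h => ?_, ?_⟩)).symm
    · exact mul_injective_of_disjoint (disjoint_iff.2 hdisj) (congrArg Subtype.val h)
    · rintro ⟨_, d, hd, w, hw, rfl⟩
      exact ⟨⟨⟨d, hd⟩, ⟨w, hw⟩⟩, rfl⟩
  have hSp : IsPGroup 2 S := IsPGroup.of_card (n := 4) (by rw [hcardS]; norm_num)
  obtain ⟨P, hP⟩ := hSp.exists_le_sylow
  have hH : Nat.card H = 48 := by
    have h := N.card_mul_index
    rw [hidx, Nat.card_congr e.toEquiv, card_SL_two 3] at h
    omega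
  have hPS : (P : Subgroup H) = S := (eq_of_le_of_card_ge hP (by
    rw [P.card_eq_multiplicity, hH, hcardS, show (48 : ℕ) = 2 ^ 4 * 3 by norm_num,
      Nat.factorization_mul (by norm_num) (by norm_num), Finsupp.add_apply, Nat.factorization_pow,
      Finsupp.smul_apply, Nat.Prime.factorization_self Nat.prime_two,
      Nat.factorization_eq_zero_of_not_dvd (show ¬ 2 ∣ 3 by norm_num)]
    norm_num)).symm
  have hxS : x ∈ normalizer (S : Set H) := by
    have key : ∀ y : H, y * v * y⁻¹ = v → ∀ w ∈ S, y * w * y⁻¹ ∈ S := fun y hy => by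
      have : S ≤ S.comap (MulAut.conj y).toMonoidHom := sup_le
        (fun w hw => (le_sup_left : D ≤ S) (hDn.conj_mem w hw y))
        (zpowers_le.2 ((le_sup_right : zpowers v ≤ S) (by
          show y * v * y⁻¹ ∈ zpowers v
          rw [hy]; exact mem_zpowers v)))
      exact fun w hw => this hw
    refine mem_normalizer_iff.2 fun w => ⟨key x (mul_inv_eq_iff_eq_mul.2 hvx.symm) w, fun hw => ?_⟩
    have hc : Commute x⁻¹ v := (show Commute x v from hvx.symm).inv_left
    have := key x⁻¹ (mul_inv_eq_iff_eq_mul.2 hc.eq) _ hw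
    simpa [mul_assoc] using this
  have hqd : Cfsg.IsQuasiDihedral S := by rw [← hPS]; exact T.sd P
  obtain ⟨k, hk⟩ := IsPGroup.iff_orderOf.1 (Cfsg.Lib.MetaTwo.isPGroup_mulAut_quasiDihedral hqd)
    (S.normalizerMonoidHom ⟨x, hxS⟩)
  have h3 : orderOf (S.normalizerMonoidHom ⟨x, hxS⟩) ∣ 3 := by
    rw [← hx, ← Subgroup.orderOf_mk x hxS]
    exact orderOf_map_dvd _ _
  have hid : S.normalizerMonoidHom ⟨x, hxS⟩ = 1 := by
    rw [← orderOf_eq_one_iff]
    rw [hk] at h3 ⊢
    exact Nat.eq_one_of_dvd_coprimes (Nat.Coprime.pow_left k (by norm_num : Nat.Coprime 2 3)) dvd_rfl h3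
  have hxN : x ∈ N := by
    have h2 : N.index ∣ 2 := hidx.dvd
    have h1 : orderOf (x : H ⧸ N) ∣ 3 := hx ▸ orderOf_map_dvd (QuotientGroup.mk' N) x
    have h1' : orderOf (x : H ⧸ N) ∣ 2 := (_root_.orderOf_dvd_natCard _).trans (by rwa [← index_eq_card])
    exact (QuotientGroup.eq_one_iff x).1 (orderOf_eq_one_iff.1
      (Nat.eq_one_of_dvd_coprimes (show Nat.Coprime 3 2 by norm_num) h1 h1'))
  obtain ⟨c, hc, hcx⟩ := hnc (e ⟨x, hxN⟩) (by
    rw [← map_mul, ← map_mul, map_eq_one_iff e e.injective]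
    refine Subtype.ext ?_
    show x * x * x = 1
    rw [← pow_two, ← pow_succ, show 2 + 1 = orderOf x from hx.symm, pow_orderOf_eq_one]) (by
    rw [ne_eq, map_eq_one_iff e e.injective]
    intro h
    rw [show x = 1 from congrArg Subtype.val h, orderOf_one] at hx
    omega)
  have hcD : ((e.symm c : N) : H) ∈ D := ⟨(e.symm c).2, by
    rw [← SubmonoidClass.coe_pow, ← map_pow, h4, hc, map_one]; rfl⟩
  have hfix : x * ((e.symm c : N) : H) * x⁻¹ = (e.symm c : N) :=
    congrArg Subtype.val (MulEquiv.congr_fun hid ⟨_, (le_sup_left : D ≤ S) hcD⟩)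
  refine hcx (e.symm.injective ?_)
  rw [map_mul, map_mul, e.symm_apply_apply]
  exact Subtype.ext (mul_inv_eq_iff_eq_mul.1 hfix).symm

section Setting

variable {G : Type u} [Group G] [Finite G] {z : G} {K : Subgroup ↥(centralizer ({z} : Set G))} [K.Normal] {p : ℕ}

theorem Setting.card_centralizer (S : Setting z K p) :
    Nat.card ↥(centralizer ({z} : Set G)) = Nat.card K * (2 * (p * (p ^ 2 - 1))) := by
  haveI := Fact.mk S.top.prime
  obtain ⟨N, -, hidx, ⟨e⟩, -⟩ := S.top.sub
  rw [← K.card_mul_index, index_eq_card, ← N.card_mul_index, hidx, Nat.card_congr e.toEquiv, card_SL_two]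
  ring

theorem Setting.index_odd (S : Setting z K p) : Odd (centralizer ({z} : Set G)).index := by
  haveI : Fact (Nat.Prime 2) := ⟨Nat.prime_two⟩
  obtain ⟨P⟩ : Nonempty (Sylow 2 G) := inferInstance
  have hne : (P : Subgroup G) ≠ ⊥ := by
    intro h
    obtain ⟨x, hx⟩ := sd_exists_eight (S.sd P)
    have h1 : (x : G) ∈ (⊥ : Subgroup G) := by rw [← h]; exact x.2
    rw [mem_bot] at h1
    rw [show x = 1 from Subtype.ext h1, orderOf_one] at hx
    omega
  haveI : Nontrivial (P : Subgroup G) := (nontrivial_iff_ne_bot _).2 hne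
  haveI := P.2.center_nontrivial
  obtain ⟨w, hw⟩ := (P.2.to_subgroup (center ↥(P : Subgroup G))).nontrivial_iff_card.1 inferInstance
  obtain ⟨⟨⟨s, hsP⟩, hsc⟩, hs⟩ := exists_prime_orderOf_dvd_card' (G := center ↥(P : Subgroup G)) 2
    (by rw [hw.2]; exact dvd_pow_self 2 hw.1.ne')
  rw [← Subgroup.orderOf_coe, ← Subgroup.orderOf_coe] at hs
  obtain ⟨g, hg⟩ := isConj_iff.1 (S.conj_all s hs)
  have hle : (P : Subgroup G).map (MulAut.conj g⁻¹).toMonoidHom ≤ centralizer ({z} : Set G) := by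
    rintro _ ⟨v, hv, rfl⟩
    refine mem_centralizer_singleton_iff.2 ?_
    have hvs : v * s = s * v := congrArg Subtype.val (mem_center_iff.1 hsc ⟨v, hv⟩)
    show g⁻¹ * v * g⁻¹⁻¹ * z = z * (g⁻¹ * v * g⁻¹⁻¹)
    calc g⁻¹ * v * g⁻¹⁻¹ * z = g⁻¹ * (v * (g * z * g⁻¹)) * g := by group
      _ = g⁻¹ * ((g * z * g⁻¹) * v) * g := by rw [hg, hvs]
      _ = z * (g⁻¹ * v * g⁻¹⁻¹) := by group
  rw [← Nat.not_even_iff_odd, even_iff_two_dvd]
  intro h
  refine P.not_dvd_index ?_
  rw [← index_map_of_bijective (f := (MulAut.conj g⁻¹).toMonoidHom) (MulEquiv.bijective (MulAut.conj g⁻¹))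
    (P : Subgroup G)]
  exact h.trans (index_dvd_of_le hle)

/-- Lifting an element of the quotient to one of the same order. -/
theorem exists_lift (h : ↥(centralizer ({z} : Set G)) ⧸ K) :
    ∃ c : G, c * z = z * c ∧ orderOf c = orderOf h := by
  obtain ⟨y, rfl⟩ := QuotientGroup.mk'_surjective K h
  obtain ⟨m, hm⟩ := orderOf_map_dvd (QuotientGroup.mk' K) y
  refine ⟨((y ^ m : ↥(centralizer ({z} : Set G))) : G), mem_centralizer_singleton_iff.1 (y ^ m).2, ?_⟩
  have hy := orderOf_pos y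
  have hm0 : 0 < m := Nat.pos_of_ne_zero fun e => by rw [e, mul_zero] at hm; omega
  rw [Subgroup.orderOf_coe, orderOf_pow, hm, Nat.gcd_mul_left_left, Nat.mul_div_cancel _ hm0]

/-- If 3 divides the order of `K`, an element of order 3 commutes with one of order 4. -/
theorem Setting.four_of_three (S : Setting z K p) (h3 : 3 ∣ Nat.card K) :
    ∃ x t : G, orderOf x = 3 ∧ orderOf t = 4 ∧ x * z = z * x ∧ t * z = z * t ∧ t * x = x * t := by
  haveI : Fact (Nat.Prime 3) := ⟨Nat.prime_three⟩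
  haveI : Fact (Nat.Prime 2) := ⟨Nat.prime_two⟩
  let C := centralizer ({z} : Set G)
  obtain ⟨P : Sylow 3 K⟩ : Nonempty (Sylow 3 K) := inferInstance
  set N := normalizer (((P : Subgroup K).map K.subtype : Subgroup ↥C) : Set ↥C) with hN
  have hfr : N ⊔ K = ⊤ := Sylow.normalizer_sup_eq_top P
  -- a Sylow 2-subgroup in the normalizer
  obtain ⟨T⟩ : Nonempty (Sylow 2 N) := inferInstance
  set T₁ : Subgroup G := ((T : Subgroup N).map N.subtype).map C.subtype with hT₁
  have hT₁p : IsPGroup 2 T₁ := (T.2.map _).map _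
  obtain ⟨R, hR⟩ := hT₁p.exists_le_sylow
  have hTR : T₁ = (R : Subgroup G) := by
    refine eq_of_le_of_card_ge hR (Nat.le_of_dvd Nat.card_pos ?_)
    obtain ⟨i, hi⟩ := IsPGroup.iff_card.1 R.2
    rw [hT₁, card_map_of_injective C.subtype_injective, card_map_of_injective N.subtype_injective, hi]
    refine T.pow_dvd_card_of_pow_dvd_card ?_
    have h1 : 2 ^ i ∣ Nat.card ↥C := by
      have h := hi ▸ (R : Subgroup G).card_subgroup_dvd_card
      rw [← C.card_mul_index] at h
      exact ((Nat.coprime_two_left.2 S.index_odd).pow_left i).dvd_of_dvd_mul_right h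
    have h2 : K.index ∣ Nat.card N := by
      rw [← relIndex_top_right, ← hfr, relIndex_sup_right]
      exact relIndex_dvd_card _ _
    rw [← K.card_mul_index] at h1
    exact (((Nat.coprime_two_left.2 S.odd_K).pow_left i).dvd_of_dvd_mul_left h1).trans h2
  obtain ⟨a, ha⟩ := sd_exists_eight (S.sd R)
  obtain ⟨aC, ⟨aN, -, haN⟩, haC⟩ : (a : G) ∈ T₁ := by rw [hTR]; exact a.2
  -- the element of order three
  set P₁ : Subgroup G := ((P : Subgroup K).map K.subtype).map C.subtype with hP₁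
  have hP₁p : IsPGroup 3 P₁ := (P.2.map _).map _
  obtain ⟨R₃, hR₃⟩ := hP₁p.exists_le_sylow
  haveI := S.cyc 3 Nat.prime_three (by norm_num) R₃
  haveI : IsCyclic P₁ := isCyclic_of_injective (inclusion hR₃) (inclusion_injective hR₃)
  obtain ⟨⟨x, hx⟩, hx3⟩ := exists_prime_orderOf_dvd_card' (G := P₁) 3 (by
    rw [hP₁, card_map_of_injective C.subtype_injective, card_map_of_injective K.subtype_injective]
    exact P.dvd_card_of_dvd_card h3)
  rw [Subgroup.orderOf_mk] at hx3
  obtain ⟨xC, hxP, hxe⟩ := id hx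
  have hxC : x * z = z * x := by rw [← hxe]; exact mem_centralizer_singleton_iff.1 xC.2
  have haz : (a : G) * z = z * a := by rw [← haC]; exact mem_centralizer_singleton_iff.1 aC.2
  have hax : (a : G) * x * (a : G)⁻¹ ∈ P₁ := by
    rw [← haC, ← hxe]
    exact ⟨aC * xC * aC⁻¹, haN ▸ (mem_normalizer_iff.1 aN.2 xC).1 hxP, rfl⟩
  -- the cube roots of unity of a cyclic group
  have h3r : (a : G) * x * (a : G)⁻¹ = x ∨ (a : G) * x * (a : G)⁻¹ = x⁻¹ := by
    set y : P₁ := ⟨_, hax⟩
    set w : P₁ := ⟨x, hx⟩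
    have hy3 : y ^ 3 = 1 := Subtype.ext (by
      show ((a : G) * x * (a : G)⁻¹) ^ 3 = 1
      rw [conj_pow, ← hx3, pow_orderOf_eq_one]; group)
    have hw3 : orderOf w = 3 := by rw [Subgroup.orderOf_mk]; exact hx3
    classical
    haveI := Fintype.ofFinite P₁
    have hle := IsCyclic.card_pow_eq_one_le (α := P₁) (n := 3) (by norm_num)
    have hsub : ({1, w, w⁻¹} : Finset P₁) ⊆ Finset.univ.filter fun v : P₁ => v ^ 3 = 1 := by
      intro v hv
      simp only [Finset.mem_insert, Finset.mem_singleton] at hv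
      refine Finset.mem_filter.2 ⟨Finset.mem_univ _, ?_⟩
      rcases hv with rfl | rfl | rfl
      · exact one_pow _
      · rw [← hw3, pow_orderOf_eq_one]
      · rw [inv_pow, ← hw3, pow_orderOf_eq_one, inv_one]
    have hw1 : w ≠ 1 := fun h => by rw [h, orderOf_one] at hw3; omega
    have hww : w ≠ w⁻¹ := fun h => by
      have : orderOf w ∣ 2 := orderOf_dvd_of_pow_eq_one (by
        rw [pow_two]; conv_lhs => arg 2; rw [h]
        rw [mul_inv_cancel])
      rw [hw3] at this; norm_num at this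
    have hc3 : ({1, w, w⁻¹} : Finset P₁).card = 3 := by
      rw [Finset.card_eq_three]
      exact ⟨1, w, w⁻¹, hw1.symm, fun h => hw1 (inv_eq_one.1 h.symm), hww, rfl⟩
    have heq := Finset.eq_of_subset_of_card_le hsub (by rw [hc3]; exact hle)
    have hym : y ∈ ({1, w, w⁻¹} : Finset P₁) := by
      rw [heq]; exact Finset.mem_filter.2 ⟨Finset.mem_univ _, hy3⟩
    simp only [Finset.mem_insert, Finset.mem_singleton] at hym
    rcases hym with h | h | h
    · exfalso
      have h' : (a : G) * x * (a : G)⁻¹ = 1 := congrArg Subtype.val h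
      rw [mul_inv_eq_one, mul_eq_left] at h'
      rw [h', orderOf_one] at hx3; omega
    · exact Or.inl (congrArg Subtype.val h)
    · exact Or.inr (congrArg Subtype.val h)
  refine ⟨x, (a : G) ^ 2, hx3, ?_, hxC, ?_, ?_⟩
  · rw [orderOf_pow, Subgroup.orderOf_coe, ha]; norm_num
  · exact ((show Commute (a : G) z from haz).pow_left 2).eq
  · rw [← mul_inv_eq_iff_eq_mul]
    calc (a : G) ^ 2 * x * ((a : G) ^ 2)⁻¹ = (a : G) * ((a : G) * x * (a : G)⁻¹) * (a : G)⁻¹ := by rw [pow_two]; group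
      _ = x := by
        rcases h3r with h | h
        · rw [h, h]
        · rw [h, ← conj_inv, h, inv_inv]

end Setting

end Cfsg.Lib.SemiCyclic
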