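import Cfsg.Agent.SemiCyclic.Kill.Model

/-!
# The Sylow orders needed for the arithmetic
-/

set_option autoImplicit false
set_option linter.style.haveILetI false
set_option linter.unusedSectionVars false

namespace Cfsg.Lib.SemiCyclic

open Subgroup
open scoped MatrixGroups

universe u

variable {G : Type u} [Group G] [Finite G] {z : G} {K : Subgroup ↥(centralizer ({z} : Set G))} [K.Normal] {p : ℕ}

/-- Elements of the quotient of order `|Q + 1|` and of order `p`. -/
theorem Setting.exists_quot_order (S : Setting z K p) (n : ℕ)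
    (hn : n ∣ (sgnPrime p + 1).natAbs) : ∃ c : G, c * z = z * c ∧ orderOf c = n := by
  haveI := Fact.mk S.top.prime
  have hp3 := S.top.three_le
  obtain ⟨N, -, -, ⟨e⟩, -⟩ := S.top.sub
  obtain ⟨s, hs⟩ : ∃ s : SL(2, ZMod p), orderOf s = (sgnPrime p + 1).natAbs := by
    by_cases h : p % 4 = 3
    · obtain ⟨s, hs⟩ := Cfsg.Lib.GLTwo.exists_orderOf_add_one (F := ZMod p)
      refine ⟨s, ?_⟩
      rw [hs, ZMod.card, sgnPrime, if_pos h]
      omega
    · obtain ⟨s, hs⟩ := Cfsg.Lib.GLTwo.exists_orderOf_sub_one (F := ZMod p)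
      refine ⟨s, ?_⟩
      rw [hs, ZMod.card, sgnPrime, if_neg h]
      omega
  obtain ⟨m, hm⟩ := hn
  have hm0 : 0 < m := by
    have := sgnPrime_facts S.top.prime hp3
    rcases Nat.eq_zero_or_pos m with rfl | h
    · rw [mul_zero, Int.natAbs_eq_zero] at hm
      omega
    · exact h
  obtain ⟨c, hc, hco⟩ := exists_lift (z := z) (K := K) ((e.symm (s ^ m) : N) : _ ⧸ K)
  refine ⟨c, hc, ?_⟩
  rw [hco, Subgroup.orderOf_coe, MulEquiv.orderOf_eq, orderOf_pow, hs, hm, Nat.gcd_mul_left_left,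
    Nat.mul_div_cancel _ hm0]

/-- An element of each prime order dividing `|C|`. -/
theorem Setting.exists_prime_order (S : Setting z K p) {r : ℕ} [Fact r.Prime]
    (hd : r ∣ Nat.card ↥(centralizer ({z} : Set G))) : ∃ x : G, orderOf x = r ∧ z * x = x * z := by
  obtain ⟨x, hx⟩ := exists_prime_orderOf_dvd_card' r hd
  exact ⟨x, by rw [Subgroup.orderOf_coe]; exact hx, (mem_centralizer_singleton_iff.1 x.2).symm⟩

theorem dvd_order {r p : ℕ} (hp : p.Prime) (h3 : 3 ≤ p) (h : (r : ℤ) ∣ sgnPrime p * (sgnPrime p ^ 2 - 1)) :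
    r ∣ p * (p ^ 2 - 1) := by
  have h1 : (sgnPrime p * (sgnPrime p ^ 2 - 1)).natAbs = p * (p ^ 2 - 1) := by
    have hs : sgnPrime p ^ 2 = (p : ℤ) ^ 2 := by unfold sgnPrime; split <;> ring
    have hp1 : 1 ≤ p ^ 2 := Nat.one_le_pow _ _ (by omega)
    rw [Int.natAbs_mul, (sgnPrime_facts hp h3).1, hs,
      show (p : ℤ) ^ 2 - 1 = ((p ^ 2 - 1 : ℕ) : ℤ) by push_cast [Nat.cast_sub hp1]; ring, Int.natAbs_natCast]
  exact h1 ▸ Int.natCast_dvd.1 h

/-- The primes of the model. -/
theorem Setting.not_dvd_index (S : Setting z K p) {r : ℕ} (hr : r.Prime) (hr2 : r ≠ 2)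
    (hd : (r : ℤ) ∣ sgnPrime p * (sgnPrime p ^ 2 - 1)) (hx : ¬ (r = 3 ∧ (3 : ℤ) ∣ sgnPrime p - 1)) :
    ¬ r ∣ (centralizer ({z} : Set G)).index := by
  haveI := Fact.mk hr
  haveI := Fact.mk S.top.prime
  set Q := sgnPrime p with hQ
  have hdC : r ∣ Nat.card ↥(centralizer ({z} : Set G)) := by
    rw [S.card_centralizer]
    exact ((dvd_order S.top.prime S.top.three_le hd).mul_left 2).mul_left _
  intro hdvd
  -- every element of order `r` in the centralizer shows the exception
  have hex : ∀ x : G, orderOf x = r → z * x = x * z → r = 3 ∧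
      (∀ t : G, orderOf t = 4 → t * z = z * t → t * x = x * t → False) ∧
        ∃ u : G, orderOf u = 2 ∧ u ≠ z ∧ u * z = z * u ∧ u * x = x * u := fun x hxo hzx =>
    (local_main S.sd hr2 (S.cyc r hr hr2) S.z_ord S.conj_all hxo hzx).elim (fun h => absurd hdvd h)
      fun h => ⟨h.1, h.2.2⟩
  obtain ⟨x, hxo, hzx⟩ := S.exists_prime_order hdC
  obtain ⟨hr3, hno, u, hu, huz, huzc, hux⟩ := hex x hxo hzx
  subst hr3
  have h3 : ¬ (3 : ℤ) ∣ Q - 1 := fun h => hx ⟨rfl, h⟩
  -- no element of order four commutes with an element of order three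
  have hkill : ∀ x t : G, orderOf x = 3 → orderOf t = 4 → x * z = z * x → t * z = z * t → t * x = x * t → False :=
    fun x t hxo ht hxz htz htx => (hex x hxo hxz.symm).2.1 t ht htz htx
  by_cases hK : 3 ∣ Nat.card K
  · obtain ⟨x, t, h1, h2, h3', h4, h5⟩ := S.four_of_three hK
    exact hkill x t h1 h2 h3' h4 h5
  by_cases hp : p = 3
  · subst hp
    set q := QuotientGroup.mk' K
    have hK1 : ∀ v : ↥(centralizer ({z} : Set G)), orderOf v = 2 ∨ orderOf v = 3 → orderOf (q v) = orderOf v := by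
      intro v hv
      have hd1 := orderOf_map_dvd q v
      have hne : orderOf (q v) ≠ 1 := by
        intro h
        rw [orderOf_eq_one_iff, QuotientGroup.mk'_apply, QuotientGroup.eq_one_iff] at h
        have := Subgroup.orderOf_dvd_natCard _ h
        rcases hv with hv | hv <;> rw [hv] at this
        · exact Nat.not_even_iff_odd.2 S.odd_K (even_iff_two_dvd.2 this)
        · exact hK this
      rcases hv with hv | hv <;> rw [hv] at hd1 ⊢
      · exact ((Nat.dvd_prime Nat.prime_two).1 hd1).resolve_left hne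
      · exact ((Nat.dvd_prime Nat.prime_three).1 hd1).resolve_left hne
    set xC : ↥(centralizer ({z} : Set G)) := ⟨x, mem_centralizer_singleton_iff.2 hzx.symm⟩
    set uC : ↥(centralizer ({z} : Set G)) := ⟨u, mem_centralizer_singleton_iff.2 huzc⟩
    set zC : ↥(centralizer ({z} : Set G)) := ⟨z, mem_centralizer_singleton_iff.2 rfl⟩
    have hux' : q uC * q xC = q xC * q uC := by rw [← map_mul, ← map_mul]; exact congrArg q (Subtype.ext hux)
    have hzx' : q zC * q xC = q xC * q zC := by rw [← map_mul, ← map_mul]; exact congrArg q (Subtype.ext hzx)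
    have huz' : q uC * q zC = q zC * q uC := by rw [← map_mul, ← map_mul]; exact congrArg q (Subtype.ext huzc)
    refine no_four_three S.top (x := q xC) (a := q uC) (b := q zC) ?_ ?_ ?_ (fun h => ?_) huz' hux' hzx'
    · rw [hK1 xC (Or.inr ((Subgroup.orderOf_mk _ _).trans hxo))]; exact (Subgroup.orderOf_mk _ _).trans hxo
    · rw [hK1 uC (Or.inl ((Subgroup.orderOf_mk _ _).trans hu))]; exact (Subgroup.orderOf_mk _ _).trans hu
    · rw [hK1 zC (Or.inl ((Subgroup.orderOf_mk _ _).trans S.z_ord))]; exact (Subgroup.orderOf_mk _ _).trans S.z_ord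
    · have hzz : z * z = 1 := by rw [← pow_two, ← S.z_ord, pow_orderOf_eq_one]
      have hi : z⁻¹ = z := inv_eq_of_mul_eq_one_right hzz
      have huz2 : orderOf (u * z⁻¹) = 2 := by
        refine orderOf_eq_prime ?_ (fun h => huz (mul_inv_eq_one.1 h))
        rw [pow_two, hi, show u * z * (u * z) = u * (z * u) * z by group, ← huzc,
          show u * (u * z) * z = (u * u) * (z * z) by group, hzz, ← pow_two, ← hu, pow_orderOf_eq_one, one_mul]
      have h' : q (uC * zC⁻¹) = 1 := by rw [map_mul, map_inv, h, mul_inv_cancel]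
      have := hK1 (uC * zC⁻¹) (Or.inl (by rw [← Subgroup.orderOf_coe]; exact huz2))
      rw [h', orderOf_one, ← Subgroup.orderOf_coe] at this
      have e2 : orderOf ((uC * zC⁻¹ : ↥(centralizer ({z} : Set G))) : G) = 2 := huz2
      omega
  -- three divides `Q + 1`
  have h12 : 12 ∣ (Q + 1).natAbs := by
    have h4 := (sgnPrime_facts S.top.prime S.top.three_le).2.1
    have hQ3 : ¬ (3 : ℤ) ∣ Q := by
      intro h
      have : (3 : ℕ) ∣ p := by
        have h' := Int.natAbs_dvd_natAbs.2 h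
        rwa [hQ, (sgnPrime_facts S.top.prime S.top.three_le).1] at h'
      exact hp ((Nat.prime_dvd_prime_iff_eq Nat.prime_three S.top.prime).1 this).symm
    rw [← hQ] at h4
    have h31 : (3 : ℤ) ∣ Q + 1 := by
      rw [Int.dvd_iff_emod_eq_zero] at hQ3 h3 ⊢
      have := Int.emod_nonneg Q (show (3 : ℤ) ≠ 0 by norm_num)
      have := Int.emod_lt_of_pos Q (show (0 : ℤ) < 3 by norm_num)
      rw [Int.sub_emod] at h3
      rw [Int.add_emod]
      rcases (show Q % 3 = 0 ∨ Q % 3 = 1 ∨ Q % 3 = 2 by omega) with e | e | e <;> rw [e] at h3 hQ3 ⊢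
      all_goals first | (norm_num at h3; done) | (norm_num at hQ3; done) | norm_num
    have : ((12 : ℕ) : ℤ) ∣ Q + 1 := by
      push_cast
      exact (show IsCoprime (3 : ℤ) 4 from ⟨-1, 1, by norm_num⟩).mul_dvd h31 h4
    exact Int.natCast_dvd.1 this
  obtain ⟨c, hc, hco⟩ := S.exists_quot_order 12 (hQ ▸ h12)
  refine hkill (c ^ 4) (c ^ 3) ?_ ?_ ((show Commute c z from hc).pow_left 4).eq
    ((show Commute c z from hc).pow_left 3).eq (Commute.pow_pow_self c 3 4).eq
  · rw [orderOf_pow, hco]; norm_num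
  · rw [orderOf_pow, hco]; norm_num

theorem Setting.not_nine_dvd (S : Setting z K p) (h : (3 : ℤ) ∣ sgnPrime p - 1) :
    ¬ 9 ∣ (centralizer ({z} : Set G)).index := by
  haveI : Fact (Nat.Prime 3) := ⟨Nat.prime_three⟩
  have hd : ((3 : ℕ) : ℤ) ∣ sgnPrime p * (sgnPrime p ^ 2 - 1) := by
    rw [show sgnPrime p ^ 2 - 1 = (sgnPrime p + 1) * (sgnPrime p - 1) by ring]
    push_cast
    exact (h.mul_left _).mul_left _
  obtain ⟨x, hxo, hzx⟩ := S.exists_prime_order (r := 3) (by
    rw [S.card_centralizer]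
    exact ((dvd_order S.top.prime S.top.three_le hd).mul_left 2).mul_left _)
  rcases local_main S.sd (by norm_num) (S.cyc 3 Nat.prime_three (by norm_num)) S.z_ord S.conj_all hxo hzx with h1 | h1
  · exact fun h9 => h1 (dvd_trans (by norm_num) h9)
  · exact h1.2.1

/-- The arithmetic applied to the configuration. -/
theorem Setting.cases (S : Setting z K p) {c : ℕ} {f g : ℤ} (hc : 0 < c) (hf : Even f) (hf0 : f ≠ 0)
    (hg : (sgnPrime p ^ 2 - 1 - f) * g = sgnPrime p ^ 2 * f)
    (hord : ((centralizer ({z} : Set G)).index : ℤ) * (f - sgnPrime p + 1) ^ 2 =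
      (c : ℤ) ^ 2 * sgnPrime p * (sgnPrime p + 1) * (sgnPrime p ^ 2 - 1) * (f * (f + 1))) :
    p = 5 ∧ (centralizer ({z} : Set G)).index = 357 * c ^ 2 :=
  ⟨(order_cases S.top.prime S.top.three_le rfl S.index_odd hc hf hf0 hg hord
      (fun _ hr h2 hd hx => S.not_dvd_index hr h2 hd hx) S.not_nine_dvd).1,
    (order_cases S.top.prime S.top.three_le rfl S.index_odd hc hf hf0 hg hord
      (fun _ hr h2 hd hx => S.not_dvd_index hr h2 hd hx) S.not_nine_dvd).2.1⟩

end Cfsg.Lib.SemiCyclic
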